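import Groth.Agent.Sga7.H524.DenseAlg
import Groth.Agent.Dix.HenselPoints

/-!
# Sections through open subsets of base changes of the special fibre

`exists_section_dense`: `R` strictly henselian local, `T` smooth over `R`, `κ` a field over the residue field and `O` a
nonempty open subscheme of `T ×_R κ`. There is a section `c` of `T` over `R` whose base change to `κ` lies in `O`.
-/

set_option autoImplicit false

universe u

open CategoryTheory CategoryTheory.Limits AlgebraicGeometry TensorProduct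

namespace Groth.Agent.Sga7.H524.Dense

theorem exists_section_dense_affine {R : Type u} [CommRing R] [IsLocalRing R]
    (hR : EtCoh.IsStrictlyHenselianLocalRing R) (C : CommRingCat.{u})
    (p : Spec C ⟶ Spec (CommRingCat.of R)) [Smooth p] {κ : Type u} [Field κ]
    (t : Spec (CommRingCat.of κ) ⟶ Spec (CommRingCat.of R))
    (ht : t (IsLocalRing.closedPoint κ) = IsLocalRing.closedPoint R) {O : Scheme.{u}}
    (o : O ⟶ pullback p t) [IsOpenImmersion o] [Nonempty O] :
    ∃ (c : Spec (CommRingCat.of R) ⟶ Spec C) (s : Spec (CommRingCat.of κ) ⟶ O), c ≫ p = 𝟙 _ ∧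
      s ≫ o ≫ pullback.fst p t = t ≫ c ∧ s ≫ o ≫ pullback.snd p t = 𝟙 _ := by
  obtain ⟨φ, hφp⟩ := Spec.map_surjective p
  obtain ⟨ψ, hψt⟩ := Spec.map_surjective t
  let _ : Algebra R C := φ.hom.toAlgebra
  let _ : Algebra R κ := ψ.hom.toAlgebra
  have hp : p = Spec.map (CommRingCat.ofHom (algebraMap R C)) := hφp.symm
  have ht' : t = Spec.map (CommRingCat.ofHom (algebraMap R κ)) := hψt.symm
  clear hφp hψt
  subst hp ht'
  have hsm : Smooth (Spec.map (CommRingCat.ofHom (algebraMap R C))) := inferInstance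
  rw [HasRingHomProperty.Spec_iff (P := @Smooth)] at hsm
  have : Algebra.Smooth R C := hsm
  have hκ : ∀ r ∈ IsLocalRing.maximalIdeal R, algebraMap R κ r = 0 := by
    intro r hr
    have h1 : r ∈ (IsLocalRing.closedPoint R).asIdeal := hr
    rw [← ht] at h1
    have h2 : algebraMap R κ r ∈ IsLocalRing.maximalIdeal κ := h1
    rwa [IsLocalRing.maximalIdeal_eq_bot, Ideal.mem_bot] at h2
  let i := pullbackSpecIso R C κ
  let o' : O ⟶ Spec (CommRingCat.of (C ⊗[R] κ)) := o ≫ i.hom
  obtain ⟨x⟩ := (inferInstance : Nonempty O)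
  have hop : IsOpen (Set.range o') := o'.isOpenEmbedding.isOpen_range
  obtain ⟨_, ⟨f, rfl⟩, hxf, hf⟩ := PrimeSpectrum.isTopologicalBasis_basic_opens.exists_subset_of_mem_open
    (show o' x ∈ Set.range o' from ⟨x, rfl⟩) hop
  have hf0 : f ≠ 0 := by
    rintro rfl
    exact hxf (Ideal.zero_mem _)
  obtain ⟨q, hq, b, hqm, hbq, hb⟩ := DenseAlg.exists_witness hκ f hf0
  let y : Spec C := ⟨q, hq⟩
  have hy : Spec.map (CommRingCat.ofHom (algebraMap R C)) y = IsLocalRing.closedPoint R := by
    apply PrimeSpectrum.ext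
    change Ideal.comap (algebraMap R C) q = IsLocalRing.maximalIdeal R
    refine le_antisymm (IsLocalRing.le_maximalIdeal (Ideal.comap_isPrime _ _).ne_top) ?_
    intro r hr
    exact hqm r hr
  obtain ⟨a, ha, ha'⟩ := Groth.Agent.Dix.HenselPoints.exists_section hR C
    (Spec.map (CommRingCat.ofHom (algebraMap R C))) y hy (PrimeSpectrum.basicOpen b) hbq
  obtain ⟨α, rfl⟩ := Spec.map_surjective a
  have hα : CommRingCat.ofHom (algebraMap R C) ≫ α = 𝟙 _ := by
    apply Spec.map_injective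
    rw [Spec.map_comp, ha, Spec.map_id]
  let α' : C →ₐ[R] R :=
    { toRingHom := α.hom
      commutes' := fun r => ConcreteCategory.congr_hom hα r }
  have hab : α' b ∉ IsLocalRing.maximalIdeal R := fun h => ha' h
  have hev := hb α' hab
  let s' : Spec (CommRingCat.of κ) ⟶ Spec (CommRingCat.of (C ⊗[R] κ)) :=
    Spec.map (CommRingCat.ofHom (DenseAlg.ev κ α').toRingHom)
  have hs' : Set.range s' ⊆ Set.range o' := by
    rintro _ ⟨z, rfl⟩
    apply hf
    change DenseAlg.ev κ α' f ∉ z.asIdeal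
    have hz : z.asIdeal = ⊥ :=
      (Ideal.eq_bot_or_top (K := κ) z.asIdeal).resolve_right z.isPrime.ne_top
    rw [hz, Ideal.mem_bot]
    exact hev
  let s : Spec (CommRingCat.of κ) ⟶ O := IsOpenImmersion.lift o' s' hs'
  have hs : s ≫ o = s' ≫ i.inv := by
    rw [Iso.eq_comp_inv, Category.assoc]
    exact IsOpenImmersion.lift_fac _ _ _
  refine ⟨Spec.map α, s, ha, ?_, ?_⟩
  · rw [← Category.assoc, hs, Category.assoc, pullbackSpecIso_inv_fst, ← Spec.map_comp, ← Spec.map_comp]
    congr 1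
    ext c
    change DenseAlg.ev κ α' (c ⊗ₜ[R] (1 : κ)) = algebraMap R κ (α' c)
    rw [DenseAlg.ev_tmul, Algebra.smul_def, mul_one]
  · rw [← Category.assoc, hs, Category.assoc, pullbackSpecIso_inv_snd, ← Spec.map_comp, ← Spec.map_id]
    congr 1
    ext c
    change DenseAlg.ev κ α' ((1 : C) ⊗ₜ[R] c) = c
    rw [DenseAlg.ev_tmul, map_one, one_smul]

/-- Sections through nonempty open subschemes of `T ×_R κ`. -/
theorem exists_section_dense {R : Type u} [CommRing R] [IsLocalRing R]
    (hR : EtCoh.IsStrictlyHenselianLocalRing R) {T : Scheme.{u}}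
    (p : T ⟶ Spec (CommRingCat.of R)) [Smooth p] {κ : Type u} [Field κ]
    (t : Spec (CommRingCat.of κ) ⟶ Spec (CommRingCat.of R))
    (ht : t (IsLocalRing.closedPoint κ) = IsLocalRing.closedPoint R) {O : Scheme.{u}}
    (o : O ⟶ pullback p t) [IsOpenImmersion o] [Nonempty O] :
    ∃ (c : Spec (CommRingCat.of R) ⟶ T) (s : Spec (CommRingCat.of κ) ⟶ O), c ≫ p = 𝟙 _ ∧
      s ≫ o ≫ pullback.fst p t = t ≫ c ∧ s ≫ o ≫ pullback.snd p t = 𝟙 _ := by
  obtain ⟨x⟩ := (inferInstance : Nonempty O)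
  obtain ⟨V, hV, hxV, -⟩ := exists_isAffineOpen_mem_and_subset (x := pullback.fst p t (o x)) (U := ⊤) trivial
  let j : pullback (hV.fromSpec ≫ p) t ⟶ pullback p t :=
    pullback.map _ _ _ _ hV.fromSpec (𝟙 _) (𝟙 _) (by rw [Category.comp_id]) (by simp)
  have hj : IsOpenImmersion j := by unfold j; infer_instance
  have hj1 : j ≫ pullback.fst p t = pullback.fst _ _ ≫ hV.fromSpec := pullback.lift_fst _ _ _
  have hj2 : j ≫ pullback.snd p t = pullback.snd _ _ := by
    rw [pullback.lift_snd, Category.comp_id]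
  have hxj : o x ∈ Set.range j := by
    unfold j
    rw [Scheme.Pullback.range_map, hV.range_fromSpec]
    exact ⟨hxV, ⟨_, rfl⟩⟩
  obtain ⟨x', hx'⟩ := hxj
  obtain ⟨z, -, -⟩ := Scheme.Pullback.exists_preimage_pullback (f := o) (g := j) x x' hx'.symm
  have : Nonempty ↑(pullback o j) := ⟨z⟩
  obtain ⟨c, s, hc, hs1, hs2⟩ := exists_section_dense_affine hR Γ(T, V) (hV.fromSpec ≫ p) t ht
    (pullback.snd o j)
  refine ⟨c ≫ hV.fromSpec, s ≫ pullback.fst o j, by rw [Category.assoc, hc], ?_, ?_⟩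
  · rw [Category.assoc, pullback.condition_assoc, hj1, ← Category.assoc t, ← hs1]
    simp only [Category.assoc]
  · rw [Category.assoc, pullback.condition_assoc, hj2, hs2]

end Groth.Agent.Sga7.H524.Dense
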