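import Groth.Agent.Flat2B.SmoothGeom
import Mathlib.LinearAlgebra.DirectSum.Finsupp
import Mathlib.RingTheory.LocalRing.ResidueField.Basic

/-!
# Nonvanishing of functions on a base change to a field at rational points

Let `R` be a local ring, `C` a smooth `R`-algebra and `κ` a field over the residue field of `R`. For a nonzero
element `f` of `C ⊗ κ` there is an element `b` of `C`, not nilpotent modulo the maximal ideal, such that `f` does not
vanish at the base change to `κ` of an `R`-point of `C` as soon as `b` does not vanish at its closed point.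
-/

set_option autoImplicit false

universe u

open TensorProduct IsLocalRing

namespace Groth.Agent.Sga7.H524.DenseAlg

variable {R C κ : Type u} [CommRing R] [IsLocalRing R] [CommRing C] [Algebra R C] [Field κ] [Algebra R κ]

/-- The `κ`-point attached to an `R`-point. -/
noncomputable def ev (κ : Type u) [Field κ] [Algebra R κ] (a : C →ₐ[R] R) : C ⊗[R] κ →ₐ[R] κ :=
  Algebra.TensorProduct.lift ((Algebra.ofId R κ).comp a) (AlgHom.id R κ) (fun _ _ => Commute.all _ _)

omit [IsLocalRing R] in
theorem ev_tmul (a : C →ₐ[R] R) (c : C) (x : κ) : ev κ a (c ⊗ₜ x) = a c • x := by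
  rw [ev, Algebra.TensorProduct.lift_tmul, Algebra.smul_def]
  rfl

theorem isReduced_tensor [Algebra.Smooth R C] : IsReduced (C ⊗[R] ResidueField R) := by
  have h1 : IsReduced (ResidueField R ⊗[R] C) :=
    Groth.Agent.Flat2B.SmoothGeom.isReduced_of_smooth_field (ResidueField R) (ResidueField R ⊗[R] C)
  exact isReduced_of_injective (Algebra.TensorProduct.comm R C (ResidueField R)).toRingEquiv.toRingHom
    (Algebra.TensorProduct.comm R C (ResidueField R)).injective

theorem exists_tmul_one (z : C ⊗[R] ResidueField R) : ∃ c : C, c ⊗ₜ[R] (1 : ResidueField R) = z := by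
  induction z with
  | zero => exact ⟨0, TensorProduct.zero_tmul _ _⟩
  | tmul c x =>
    obtain ⟨r, rfl⟩ := IsLocalRing.residue_surjective x
    refine ⟨r • c, ?_⟩
    rw [TensorProduct.smul_tmul]
    congr 1
    rw [Algebra.smul_def, mul_one]
    rfl
  | add x y hx hy =>
    obtain ⟨c, rfl⟩ := hx
    obtain ⟨d, rfl⟩ := hy
    exact ⟨c + d, TensorProduct.add_tmul _ _ _⟩

open Classical in
theorem exists_witness [Algebra.Smooth R C] (hκ : ∀ r ∈ maximalIdeal R, algebraMap R κ r = 0)
    (f : C ⊗[R] κ) (hf : f ≠ 0) :
    ∃ (q : Ideal C) (_ : q.IsPrime) (b : C), (∀ r ∈ maximalIdeal R, algebraMap R C r ∈ q) ∧ b ∉ q ∧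
      ∀ a : C →ₐ[R] R, a b ∉ maximalIdeal R → ev κ a f ≠ 0 := by
  let k := ResidueField R
  let _ : Algebra k κ := (Ideal.Quotient.lift (maximalIdeal R) (algebraMap R κ) hκ).toAlgebra
  have : IsScalarTower R k κ := IsScalarTower.of_algebraMap_eq fun r => rfl
  let e := Module.Basis.ofVectorSpace k κ
  let g : Module.Basis.ofVectorSpaceIndex k κ →₀ (C ⊗[R] k) :=
    TensorProduct.finsuppRight R R C k _
      ((LinearMap.lTensor C (e.repr.toLinearMap.restrictScalars R)) f)
  have hg : g ≠ 0 := by
    intro h0
    apply hf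
    have h1 : Function.Injective (LinearMap.lTensor C (e.repr.toLinearMap.restrictScalars R)) :=
      (LinearEquiv.lTensor C (e.repr.restrictScalars R)).injective
    apply h1
    rw [map_zero]
    exact (TensorProduct.finsuppRight R R C k _).injective (h0.trans (map_zero _).symm)
  obtain ⟨i, hi⟩ := Finsupp.ne_iff.1 hg
  have hi : g i ≠ 0 := hi
  obtain ⟨b, hb⟩ := exists_tmul_one (g i)
  have hred : IsReduced (C ⊗[R] k) := isReduced_tensor
  have hnil : ¬ IsNilpotent (g i) := fun h => hi h.eq_zero
  rw [nilpotent_iff_mem_prime] at hnil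
  push Not at hnil
  obtain ⟨Q, hQ, hQi⟩ := hnil
  refine ⟨Q.comap (Algebra.TensorProduct.includeLeftRingHom : C →+* C ⊗[R] k), Ideal.comap_isPrime _ _, b,
    ?_, ?_, ?_⟩
  · intro r hr
    rw [Ideal.mem_comap]
    have h1 : (Algebra.TensorProduct.includeLeftRingHom : C →+* C ⊗[R] k) (algebraMap R C r) = 0 := by
      change algebraMap R C r ⊗ₜ[R] (1 : k) = 0
      rw [Algebra.algebraMap_eq_smul_one, TensorProduct.smul_tmul, Algebra.smul_def]
      have h2 : algebraMap R k r = 0 := (IsLocalRing.residue_eq_zero_iff r).2 hr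
      rw [h2, zero_mul, TensorProduct.tmul_zero]
    rw [h1]
    exact Q.zero_mem
  · rw [Ideal.mem_comap]
    change b ⊗ₜ[R] (1 : k) ∉ Q
    rw [hb]
    exact hQi
  · intro a ha h0
    -- coordinates of the value
    have key : ∀ z : C ⊗[R] κ, e.repr (ev κ a z) i = ev k a
        (TensorProduct.finsuppRight R R C k (Module.Basis.ofVectorSpaceIndex k κ)
          ((LinearMap.lTensor C (e.repr.toLinearMap.restrictScalars R)) z) i) := by
      intro z
      induction z with
      | zero => simp
      | tmul c x =>
        rw [ev_tmul, LinearMap.lTensor_tmul, TensorProduct.finsuppRight_apply_tmul_apply, ev_tmul]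
        have h3 : a c • x = (algebraMap R k (a c)) • x := (algebraMap_smul k (a c) x).symm
        rw [h3, map_smul]
        change algebraMap R k (a c) • (e.repr x i) = a c • (e.repr x i)
        exact algebraMap_smul k (a c) _
      | add x y hx hy =>
        rw [map_add, map_add, map_add, map_add, Finsupp.add_apply, Finsupp.add_apply, map_add, hx, hy]
    have h1 := key f
    rw [h0, map_zero] at h1
    have h2 : ev k a (g i) = 0 := h1.symm
    rw [← hb, ev_tmul, Algebra.smul_def, mul_one] at h2
    exact ha ((IsLocalRing.residue_eq_zero_iff _).1 h2)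

end Groth.Agent.Sga7.H524.DenseAlg
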