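import Mathlib.AlgebraicGeometry.Morphisms.OpenImmersion
import Mathlib.CategoryTheory.Monoidal.Cartesian.Over
import Mathlib.CategoryTheory.Monoidal.Cartesian.Grp
import Mathlib.CategoryTheory.Limits.Constructions.Over.Connected
import Mathlib.CategoryTheory.Limits.Constructions.Over.Basic
import Mathlib.AlgebraicGeometry.Limits
import Mathlib.AlgebraicGeometry.Group.Smooth

/-!
# Open immersions in `Over S` and base change
-/

set_option autoImplicit false

universe u v w

open CategoryTheory CategoryTheory.Limits MonoidalCategory CartesianMonoidalCategory AlgebraicGeometry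

namespace Groth.Agent.Sga7.H524.OverOpen

section Cat

variable {C : Type u} [Category.{v} C] [CartesianMonoidalCategory C]

theorem isPullback_lift {D P X Q W : C} (f : D ⟶ P) (g : D ⟶ X) (y : Q ⟶ X) (a : W ⟶ D) (c : W ⟶ Q)
    (h : IsPullback a c g y) : IsPullback a (lift (a ≫ f) c) (lift f g) (P ◁ y) := by
  have hc : ∀ s : PullbackCone (lift f g) (P ◁ y), s.fst ≫ g = (s.snd ≫ snd P Q) ≫ y := fun s => by
    have := congrArg (fun t => t ≫ snd _ _) s.condition
    simpa using this
  refine ⟨⟨?_⟩, ⟨PullbackCone.IsLimit.mk _ (fun s => h.lift s.fst (s.snd ≫ snd _ _) (hc s)) ?_ ?_ ?_⟩⟩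
  · apply CartesianMonoidalCategory.hom_ext
    · simp
    · simp [h.w]
  · intro s
    exact h.lift_fst _ _ _
  · intro s
    apply CartesianMonoidalCategory.hom_ext
    · have := congrArg (fun t => t ≫ fst _ _) s.condition
      simp only [Category.assoc, lift_fst, whiskerLeft_fst] at this
      rw [Category.assoc, lift_fst]
      exact ((Category.assoc _ _ _).symm.trans (congrArg (fun t => t ≫ f) (h.lift_fst _ _ (hc s)))).trans this
    · rw [Category.assoc, lift_snd]
      exact h.lift_snd _ _ (hc s)
  · intro s m h1 h2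
    apply h.hom_ext
    · exact h1.trans (h.lift_fst _ _ (hc s)).symm
    · refine Eq.trans ?_ (h.lift_snd _ _ (hc s)).symm
      rw [← h2, Category.assoc, lift_snd]

end Cat

variable {S : Scheme.{u}}

theorem of_isPullback {A B A' B' : Over S} {f' : A' ⟶ B'} {a : A' ⟶ A} {b : B' ⟶ B} {f : A ⟶ B}
    (h : IsPullback a f' f b) (hf : IsOpenImmersion f.left) : IsOpenImmersion f'.left := by
  have h1 : IsPullback a.left f'.left f.left b.left := h.map (Over.forget S)
  exact MorphismProperty.of_isPullback (P := @IsOpenImmersion) h1 hf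

theorem comp {A B C : Over S} {f : A ⟶ B} {g : B ⟶ C} (hf : IsOpenImmersion f.left)
    (hg : IsOpenImmersion g.left) : IsOpenImmersion (f ≫ g).left := by
  rw [Over.comp_left]
  infer_instance

theorem of_comp {A B C : Over S} {f : A ⟶ B} {g : B ⟶ C} (hf : IsOpenImmersion (f ≫ g).left)
    (hg : IsOpenImmersion g.left) : IsOpenImmersion f.left := by
  have : IsOpenImmersion (f.left ≫ g.left) := by rw [← Over.comp_left]; infer_instance
  exact IsOpenImmersion.of_comp f.left g.left

theorem of_iso {A B : Over S} (f : A ⟶ B) [IsIso f] : IsOpenImmersion f.left := by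
  have : IsIso f.left := inferInstanceAs (IsIso ((Over.forget S).map f))
  infer_instance

theorem swap {D P X : Over S} {f : D ⟶ P} {g : D ⟶ X} (h : IsOpenImmersion (lift f g).left) :
    IsOpenImmersion (lift g f).left := by
  have h1 : lift g f = lift f g ≫ lift (snd P X) (fst P X) := by
    apply CartesianMonoidalCategory.hom_ext <;> simp
  have h2 : IsIso (lift (snd P X) (fst P X)) :=
    ⟨lift (snd X P) (fst X P), by apply CartesianMonoidalCategory.hom_ext <;> simp,
      by apply CartesianMonoidalCategory.hom_ext <;> simp⟩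
  rw [h1]
  exact comp h (of_iso _)

/-- Base change of an open immersion `D ⟶ P ⊗ X` along `y : Q ⟶ X`. -/
theorem lift_of_isPullback {D P X Q W : Over S} {f : D ⟶ P} {g : D ⟶ X} {y : Q ⟶ X} {a : W ⟶ D} {c : W ⟶ Q}
    (h : IsPullback a c g y) (hj : IsOpenImmersion (lift f g).left) :
    IsOpenImmersion (lift (a ≫ f) c).left :=
  of_isPullback (isPullback_lift f g y a c h) hj

/-- Base change along a section. -/
theorem comp_of_isPullback_section {D P T W : Over S} {f : D ⟶ P} {g : D ⟶ T} {y : 𝟙_ (Over S) ⟶ T} {a : W ⟶ D}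
    {c : W ⟶ 𝟙_ (Over S)} (h : IsPullback a c g y) (hj : IsOpenImmersion (lift g f).left) :
    IsOpenImmersion (a ≫ f).left := by
  have h1 : IsOpenImmersion (lift (a ≫ f) c).left := lift_of_isPullback h (swap hj)
  have h2 : a ≫ f = lift (a ≫ f) c ≫ (ρ_ P).hom := by
    rw [rightUnitor_hom, lift_fst]
  rw [h2]
  exact comp h1 (of_iso _)

end Groth.Agent.Sga7.H524.OverOpen
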