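import Groth.Agent.Sga7.H524.LocalPts
import Groth.Agent.Sga7.H524.OverOpen
import Groth.Agent.Dix.GenExtUniq
import Groth.Agent.Dix.GenOpen

/-!
# Sections from points with values in a dominating local ring which are constant on the generic fibre
-/

set_option autoImplicit false

universe u v w

open CategoryTheory CategoryTheory.Limits MonoidalCategory CartesianMonoidalCategory AlgebraicGeometry MonObj

namespace Groth.Agent.Sga7.H524.GenSec

open Groth.Agent.Dix.GenFibre Groth.Agent.Dix.GenOpen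

section Cat

variable {C : Type u} [Category.{v} C] [CartesianMonoidalCategory C]

theorem comp_mul' {X Y G : C} [MonObj G] (f : X ⟶ Y) (a b : Y ⟶ G) : f ≫ (a * b) = (f ≫ a) * (f ≫ b) := by
  simp only [Hom.mul_def, ← Category.assoc, comp_lift]

theorem toUnit_comp' {X Y : C} {G : C} (f : X ⟶ Y) (a : 𝟙_ C ⟶ G) : f ≫ toUnit Y ≫ a = toUnit X ≫ a := by
  rw [← Category.assoc, toUnit_unique (f ≫ toUnit Y) (toUnit X)]

end Cat

variable {R : Type u} [CommRing R]

/-- The isomorphism from `Spec K` to the generic fibre of `Spec R`. -/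
noncomputable def unitF (R : Type u) [CommRing R] : 𝟙_ (Over (Spec (CommRingCat.of (FractionRing R)))) ⟶
    (Neron.genericFibre R).obj (𝟙_ (Over (Spec (CommRingCat.of R)))) :=
  Over.homMk (pullback.lift (Neron.genPt R) (𝟙 _) (by
    change Neron.genPt R ≫ 𝟙 _ = 𝟙 _ ≫ Neron.genPt R
    rw [Category.comp_id, Category.id_comp])) (pullback.lift_snd _ _ _)

theorem unitF_genι : (unitF R).left ≫ genι (𝟙_ (Over (Spec (CommRingCat.of R)))) = Neron.genPt R :=
  pullback.lift_fst _ _ _

theorem toUnit_unitF (X : Over (Spec (CommRingCat.of R))) :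
    toUnit ((Neron.genericFibre R).obj X) ≫ unitF R = (Neron.genericFibre R).map (toUnit X) := by
  apply Over.OverMorphism.ext
  apply pullback.hom_ext
  · change (toUnit ((Neron.genericFibre R).obj X)).left ≫ (unitF R).left ≫
      genι (𝟙_ (Over (Spec (CommRingCat.of R)))) = ((Neron.genericFibre R).map (toUnit X)).left ≫
      genι (𝟙_ (Over (Spec (CommRingCat.of R))))
    rw [unitF_genι, genι_naturality]
    exact (isPullback_genι X).w.symm
  · have h1 := Over.w (toUnit ((Neron.genericFibre R).obj X) ≫ unitF R)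
    have h2 := Over.w ((Neron.genericFibre R).map (toUnit X))
    exact h1.trans h2.symm

/-- The value of a section. -/
noncomputable def val {T : Over (Spec (CommRingCat.of R))} {A : Over (Spec (CommRingCat.of (FractionRing R)))}
    (ξ : (Neron.genericFibre R).obj T ⟶ A) (c : 𝟙_ (Over (Spec (CommRingCat.of R))) ⟶ T) :
    𝟙_ (Over (Spec (CommRingCat.of (FractionRing R)))) ⟶ A :=
  unitF R ≫ (Neron.genericFibre R).map c ≫ ξ

theorem map_const {T X : Over (Spec (CommRingCat.of R))} {A : Over (Spec (CommRingCat.of (FractionRing R)))}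
    (ξ : (Neron.genericFibre R).obj T ⟶ A) (c : 𝟙_ (Over (Spec (CommRingCat.of R))) ⟶ T) :
    (Neron.genericFibre R).map (toUnit X ≫ c) ≫ ξ = toUnit _ ≫ val ξ c := by
  rw [Functor.map_comp, val, ← toUnit_unitF]
  simp only [Category.assoc]

variable [IsDomain R] [IsDiscreteValuationRing R]

/-- A point of `T` with values in a local ring dominating `R` whose generic value is constant comes from an
`R`-point. -/
theorem exists_section {T : Over (Spec (CommRingCat.of R))}
    {A : Over (Spec (CommRingCat.of (FractionRing R)))}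
    (ξ : (Neron.genericFibre R).obj T ⟶ A) [IsOpenImmersion ξ.left]
    {B F₁ : Type u} [CommRing B] [IsLocalRing B] [Field F₁] (φ : B →+* F₁) (hφ : Function.Injective φ)
    (b : Spec (CommRingCat.of B) ⟶ Spec (CommRingCat.of R))
    (hb : b (IsLocalRing.closedPoint B) = IsLocalRing.closedPoint R)
    (hgen : (Spec.map (CommRingCat.ofHom φ) ≫ b) (IsLocalRing.closedPoint F₁) ∈ genOpen R)
    (δ : Over.mk b ⟶ T) (c' : 𝟙_ (Over (Spec (CommRingCat.of (FractionRing R)))) ⟶ A)
    (h : (Neron.genericFibre R).map ((Over.homMk (Spec.map (CommRingCat.ofHom φ)) rfl :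
        Over.mk (Spec.map (CommRingCat.ofHom φ) ≫ b) ⟶ Over.mk b) ≫ δ) ≫ ξ = toUnit _ ≫ c') :
    ∃ σ : 𝟙_ (Over (Spec (CommRingCat.of R))) ⟶ T, toUnit _ ≫ σ = δ ∧ val ξ σ = c' := by
  let SF : Over (Spec (CommRingCat.of R)) := Over.mk (Spec.map (CommRingCat.ofHom φ) ≫ b)
  let f : SF ⟶ Over.mk b := Over.homMk (Spec.map (CommRingCat.ofHom φ)) rfl
  have h : (Neron.genericFibre R).map (f ≫ δ) ≫ ξ = toUnit _ ≫ c' := h
  -- the field `F₁` is an extension of `K`
  have hr : Set.range (Spec.map (CommRingCat.ofHom φ) ≫ b) ⊆ Set.range (Neron.genPt R) := by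
    rintro _ ⟨z, rfl⟩
    have hz : z = IsLocalRing.closedPoint F₁ := Subsingleton.elim (α := PrimeSpectrum F₁) _ _
    subst hz
    rw [← opensRange_genPt] at hgen
    exact hgen
  obtain ⟨t₁, ht₁⟩ : ∃ t₁ : Spec (CommRingCat.of F₁) ⟶ Spec (CommRingCat.of (FractionRing R)),
      t₁ ≫ Neron.genPt R = Spec.map (CommRingCat.ofHom φ) ≫ b :=
    ⟨IsOpenImmersion.lift (Neron.genPt R) _ hr, IsOpenImmersion.lift_fac _ _ _⟩
  obtain ⟨κ, rfl⟩ := Spec.map_surjective t₁
  obtain ⟨ρ, rfl⟩ := Spec.map_surjective b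
  let l : Spec (CommRingCat.of F₁) ⟶ ((Neron.genericFibre R).obj SF).left :=
    pullback.lift (𝟙 _) (Spec.map κ) (by rw [Category.id_comp, ht₁]; rfl)
  have hl1 : l ≫ genι SF = 𝟙 _ := pullback.lift_fst _ _ _
  have hl2 : l ≫ ((Neron.genericFibre R).obj SF).hom = Spec.map κ := pullback.lift_snd _ _ _
  have h1 : l ≫ ((Neron.genericFibre R).map (f ≫ δ)).left ≫ ξ.left = Spec.map κ ≫ c'.left := by
    rw [← Over.comp_left, h, Over.comp_left, ← Category.assoc]
    change (l ≫ ((Neron.genericFibre R).obj SF).hom) ≫ c'.left = _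
    rw [hl2]
  have hc'r : Set.range c'.left ⊆ Set.range ξ.left := by
    rintro _ ⟨z, rfl⟩
    have hz : z = Spec.map κ (IsLocalRing.closedPoint F₁) :=
      Subsingleton.elim (α := PrimeSpectrum (FractionRing R)) _ _
    refine ⟨(l ≫ ((Neron.genericFibre R).map (f ≫ δ)).left) (IsLocalRing.closedPoint F₁), ?_⟩
    rw [← Scheme.Hom.comp_apply, Category.assoc, h1, Scheme.Hom.comp_apply, ← hz]
  let c'' : Spec (CommRingCat.of (FractionRing R)) ⟶ ((Neron.genericFibre R).obj T).left :=
    IsOpenImmersion.lift ξ.left c'.left hc'r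
  have hc'' : c'' ≫ ξ.left = c'.left := IsOpenImmersion.lift_fac _ _ _
  have h2 : l ≫ ((Neron.genericFibre R).map (f ≫ δ)).left = Spec.map κ ≫ c'' := by
    rw [← cancel_mono ξ.left, Category.assoc, h1, Category.assoc, hc'']
  have h3 : Spec.map (CommRingCat.ofHom φ) ≫ δ.left = Spec.map κ ≫ c'' ≫ genι T := by
    rw [← Category.assoc, ← h2, Category.assoc, genι_naturality, ← Category.assoc, hl1, Category.id_comp]
    rfl
  have hρ : IsLocalHom ρ.hom := by
    refine ⟨fun r hr => ?_⟩
    by_contra hr'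
    have h4 : r ∈ (IsLocalRing.closedPoint R).asIdeal := (IsLocalRing.mem_maximalIdeal _).2 hr'
    rw [← hb] at h4
    have h5 : ρ.hom r ∈ IsLocalRing.maximalIdeal B := h4
    exact (IsLocalRing.mem_maximalIdeal _).1 h5 hr
  have hcomp : φ.comp ρ.hom = κ.hom.comp (algebraMap R (FractionRing R)) := by
    have h4 : ρ ≫ CommRingCat.ofHom φ = CommRingCat.ofHom (algebraMap R (FractionRing R)) ≫ κ := by
      apply Spec.map_injective
      rw [Spec.map_comp, Spec.map_comp, ← ht₁]
    exact congrArg (fun t => t.hom) h4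
  obtain ⟨σ, hσ1, hσ2⟩ := LocalPts.exists_section_of_compat ρ.hom φ hφ κ.hom hcomp T.left δ.left
    (c'' ≫ genι T) h3
  have hσ1 : Spec.map ρ ≫ σ = δ.left := hσ1
  have hσ2 : Neron.genPt R ≫ σ = c'' ≫ genι T := hσ2
  have hc''o : c'' ≫ ((Neron.genericFibre R).obj T).hom = 𝟙 _ := by
    have h4 := Over.w ξ
    rw [← h4, ← Category.assoc, hc'']
    exact Over.w c'
  have hσT : σ ≫ T.hom = 𝟙 _ := by
    have h5 : Neron.genPt R ≫ σ ≫ T.hom = Neron.genPt R := by
      rw [← Category.assoc, hσ2, Category.assoc]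
      have h6 : genι T ≫ T.hom = ((Neron.genericFibre R).obj T).hom ≫ Neron.genPt R := (isPullback_genι T).w
      rw [h6, ← Category.assoc, hc''o, Category.id_comp]
    obtain ⟨χ, hχ⟩ := Spec.map_surjective (σ ≫ T.hom)
    rw [← hχ] at h5 ⊢
    rw [← Spec.map_comp] at h5
    have h6 := Spec.map_injective h5
    rw [← Spec.map_id]
    congr 1
    ext r
    apply IsFractionRing.injective R (FractionRing R)
    exact ConcreteCategory.congr_hom h6 r
  let σ' : 𝟙_ (Over (Spec (CommRingCat.of R))) ⟶ T := Over.homMk σ hσT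
  refine ⟨σ', ?_, ?_⟩
  · apply Over.OverMorphism.ext
    exact hσ1
  · apply Over.OverMorphism.ext
    change (unitF R).left ≫ ((Neron.genericFibre R).map σ').left ≫ ξ.left = c'.left
    have h7 : (unitF R).left ≫ ((Neron.genericFibre R).map σ').left = c'' := by
      rw [← cancel_mono (genι T), Category.assoc, genι_naturality, ← Category.assoc, unitF_genι]
      exact hσ2
    rw [← Category.assoc, h7, hc'']

end Groth.Agent.Sga7.H524.GenSec
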