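import Groth.Agent.Sga7.H524.GlueSpans
import Mathlib.AlgebraicGeometry.Morphisms.Separated
import Mathlib.AlgebraicGeometry.Morphisms.QuasiCompact
import Mathlib.AlgebraicGeometry.Morphisms.QuasiSeparated
import Mathlib.AlgebraicGeometry.PullbackCarrier
import Mathlib.AlgebraicGeometry.Morphisms.Immersion

/-!
# Separatedness of the glued scheme
-/

set_option autoImplicit false

universe u

open CategoryTheory CategoryTheory.Limits AlgebraicGeometry TopologicalSpace

namespace Groth.Agent.Sga7.H524.GlueSpans

variable {S : Scheme.{u}} {ι : Type u}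

namespace SpanSystem

variable {Y : ι → Over S} (P : SpanSystem Y)

/-- The morphism to the product defined by a span. -/
noncomputable def toProd {i j : ι} {V : Over S} (v : V ⟶ Y i) (g : V ⟶ Y j) :
    V.left ⟶ pullback (Y i).hom (Y j).hom :=
  pullback.lift v.left g.left (by rw [Over.w, Over.w])

/-- The products of the charts inside the product of the glued scheme. -/
noncomputable def chartProd (i j : ι) : pullback (Y i).hom (Y j).hom ⟶ pullback P.glued.hom P.glued.hom :=
  pullback.map _ _ _ _ (P.chart i).left (P.chart j).left (𝟙 S)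
    (by rw [Over.w, Category.comp_id]) (by rw [Over.w, Category.comp_id])

instance (i j : ι) : IsOpenImmersion (P.chartProd i j) := by
  unfold chartProd
  infer_instance

theorem toProd_chartProd {i j : ι} {V : Over S} {v : V ⟶ Y i} {g : V ⟶ Y j} (h : P.W i j V v g) :
    toProd v g ≫ P.chartProd i j = (v ≫ P.chart i).left ≫ pullback.diagonal P.glued.hom := by
  apply pullback.hom_ext
  · rw [Category.assoc, Category.assoc, chartProd, pullback.lift_fst, toProd, pullback.lift_fst_assoc,
      pullback.diagonal_fst, Category.comp_id]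
    rfl
  · rw [Category.assoc, Category.assoc, chartProd, pullback.lift_snd, toProd, pullback.lift_snd_assoc,
      pullback.diagonal_snd, Category.comp_id, P.glue_condition h]
    rfl

/-- Criterion for the separatedness of the glued scheme: a point of `Y i × Y j` which is a specialization of a
point of a span (lying over a fixed subset `𝒢` of the base, such that every point of a chart is a specialization of a
point over `𝒢`) lies on a span. -/
theorem isSeparated_glued [QuasiSeparated P.glued.hom] (𝒢 : Set S)
    (h1 : ∀ (i : ι) (y : (Y i).left), ∃ y', y' ⤳ y ∧ (Y i).hom y' ∈ 𝒢)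
    (h2 : ∀ (i j : ι) (V : Over S) (v : V ⟶ Y i) (g : V ⟶ Y j), P.W i j V v g → ∀ z : V.left, V.hom z ∈ 𝒢 →
      ∀ w : ↥(pullback (Y i).hom (Y j).hom), toProd v g z ⤳ w →
        ∃ (V' : Over S) (v' : V' ⟶ Y i) (g' : V' ⟶ Y j), P.W i j V' v' g' ∧ ∃ z', toProd v' g' z' = w) :
    IsSeparated P.glued.hom := by
  constructor
  have hsp : SpecializingMap (pullback.diagonal P.glued.hom) := by
    intro x w hw
    have hw : pullback.diagonal P.glued.hom x ⤳ w := hw
    have key : ∃ x', pullback.diagonal P.glued.hom x' = w := by
      obtain ⟨i, y, rfl⟩ := P.chart_surjective x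
      obtain ⟨y', hy', hy'𝒢⟩ := h1 i y
      have hw' : pullback.diagonal P.glued.hom ((P.chart i).left y') ⤳ w :=
        (hy'.map ((P.chart i).left ≫ pullback.diagonal P.glued.hom).continuous).trans hw
      obtain ⟨i1, a, ha⟩ := P.chart_surjective (pullback.fst P.glued.hom P.glued.hom w)
      obtain ⟨i2, b, hb⟩ := P.chart_surjective (pullback.snd P.glued.hom P.glued.hom w)
      have hwr : w ∈ Set.range (P.chartProd i1 i2) := by
        rw [chartProd, Scheme.Pullback.range_map]
        exact ⟨⟨a, ha⟩, ⟨b, hb⟩⟩
      obtain ⟨w', rfl⟩ := hwr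
      obtain ⟨z', hz'⟩ : pullback.diagonal P.glued.hom ((P.chart i).left y') ∈
          Set.range (P.chartProd i1 i2) :=
        hw'.mem_open (P.chartProd i1 i2).isOpenEmbedding.isOpen_range ⟨w', rfl⟩
      have hzw : z' ⤳ w' := by
        rw [← (P.chartProd i1 i2).isOpenEmbedding.isInducing.specializes_iff]
        change P.chartProd i1 i2 z' ⤳ P.chartProd i1 i2 w'
        rw [hz']
        exact hw'
      have e1 : (P.chart i1).left (pullback.fst (Y i1).hom (Y i2).hom z') = (P.chart i).left y' := by
        have := congrArg (pullback.fst P.glued.hom P.glued.hom) hz'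
        rw [← Scheme.Hom.comp_apply, ← Scheme.Hom.comp_apply, ← Scheme.Hom.comp_apply, chartProd,
          pullback.lift_fst, pullback.diagonal_fst, Category.comp_id] at this
        rw [← Scheme.Hom.comp_apply]
        exact this
      have e2 : (P.chart i2).left (pullback.snd (Y i1).hom (Y i2).hom z') = (P.chart i).left y' := by
        have := congrArg (pullback.snd P.glued.hom P.glued.hom) hz'
        rw [← Scheme.Hom.comp_apply, ← Scheme.Hom.comp_apply, ← Scheme.Hom.comp_apply, chartProd,
          pullback.lift_snd, pullback.diagonal_snd, Category.comp_id] at this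
        rw [← Scheme.Hom.comp_apply]
        exact this
      obtain ⟨V, v, g, hW, z, hz1, hz2⟩ := P.chart_eq_chart (e1.trans e2.symm)
      have hz3 : toProd v g z = z' := by
        apply (P.chartProd i1 i2).isOpenEmbedding.injective
        change P.chartProd i1 i2 (toProd v g z) = P.chartProd i1 i2 z'
        rw [hz', ← Scheme.Hom.comp_apply, P.toProd_chartProd hW, Scheme.Hom.comp_apply, Over.comp_left,
          Scheme.Hom.comp_apply, hz1, e1]
      have hz𝒢 : V.hom z ∈ 𝒢 := by
        have h3 : V.hom z = P.glued.hom ((P.chart i1).left (v.left z)) := by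
          rw [← Scheme.Hom.comp_apply, ← Scheme.Hom.comp_apply, Over.w, Over.w]
        have h4 : P.glued.hom ((P.chart i).left y') = (Y i).hom y' := by
          rw [← Scheme.Hom.comp_apply, Over.w]
        rw [h3, hz1, e1, h4]
        exact hy'𝒢
      obtain ⟨V', v', g', hW', z'', hz''⟩ := h2 i1 i2 V v g hW z hz𝒢 w' (by rw [hz3]; exact hzw)
      refine ⟨(v' ≫ P.chart i1).left z'', ?_⟩
      rw [← Scheme.Hom.comp_apply, ← P.toProd_chartProd hW', Scheme.Hom.comp_apply, hz'']
    obtain ⟨x', rfl⟩ := key
    refine ⟨x', ?_, rfl⟩
    change x ⤳ x'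
    rw [← (pullback.diagonal P.glued.hom).isEmbedding.isInducing.specializes_iff]
    exact hw
  have hc : IsClosedMap (pullback.diagonal P.glued.hom) :=
    (isClosedMap_iff_specializingMap _).2 hsp
  exact IsClosedImmersion.of_isPreimmersion _ (hc.isClosed_range)

end SpanSystem

end Groth.Agent.Sga7.H524.GlueSpans
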