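import Mathlib.AlgebraicGeometry.Gluing
import Mathlib.CategoryTheory.Comma.Over.Pullback

/-!
# Glueing schemes along a system of spans of open immersions

`SpanSystem Y`: for a family `Y i` of `S`-schemes, a class of spans `Y i ← V → Y j` of open immersions which is
reflexive, symmetric, transitive, stable under restriction, and such that one leg determines the other one.
`exists_glue`: the schemes `Y i` are then open subschemes of one `S`-scheme `G`, glued exactly along these spans.
-/

set_option autoImplicit false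

universe u

open CategoryTheory CategoryTheory.Limits AlgebraicGeometry TopologicalSpace

namespace Groth.Agent.Sga7.H524.GlueSpans

variable {S : Scheme.{u}} {ι : Type u}

/-- A class of spans of open immersions between the members of a family of `S`-schemes. -/
structure SpanSystem (Y : ι → Over S) where
  /-- the spans of the class -/
  W : ∀ (i j : ι) (V : Over S) (_ : V ⟶ Y i) (_ : V ⟶ Y j), Prop
  isOpenImmersion : ∀ {i j : ι} {V : Over S} {v : V ⟶ Y i} {g : V ⟶ Y j}, W i j V v g → IsOpenImmersion v.left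
  refl : ∀ {i : ι} {V : Over S} (v : V ⟶ Y i), IsOpenImmersion v.left → W i i V v v
  symm : ∀ {i j : ι} {V : Over S} {v : V ⟶ Y i} {g : V ⟶ Y j}, W i j V v g → W j i V g v
  restrict : ∀ {i j : ι} {V : Over S} {v : V ⟶ Y i} {g : V ⟶ Y j}, W i j V v g →
    ∀ {V' : Over S} (f : V' ⟶ V), IsOpenImmersion f.left → W i j V' (f ≫ v) (f ≫ g)
  trans : ∀ {i j k : ι} {V : Over S} {v : V ⟶ Y i} {g : V ⟶ Y j} {h : V ⟶ Y k},
    W i j V v g → W j k V g h → W i k V v h
  uniq : ∀ {i j : ι} {V : Over S} {v : V ⟶ Y i} {g g' : V ⟶ Y j}, W i j V v g → W i j V v g' → g = g'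

namespace SpanSystem

variable {Y : ι → Over S} (P : SpanSystem Y)

include P in
theorem isOpenImmersion' {i j : ι} {V : Over S} {v : V ⟶ Y i} {g : V ⟶ Y j} (h : P.W i j V v g) :
    IsOpenImmersion g.left := P.isOpenImmersion (P.symm h)

/-- The opens of the charts. -/
structure Idx (P : SpanSystem Y) : Type u where
  i : ι
  U : (Y i).left.Opens

/-- The open subscheme of a chart. -/
noncomputable def obj (a : P.Idx) : Over S := Over.mk (a.U.ι ≫ (Y a.i).hom)

/-- The inclusion in the chart. -/
noncomputable def inc (a : P.Idx) : P.obj a ⟶ Y a.i := Over.homMk a.U.ι rfl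

instance (a : P.Idx) : IsOpenImmersion (P.inc a).left := inferInstanceAs (IsOpenImmersion a.U.ι)

theorem range_inc (a : P.Idx) : Set.range (P.inc a).left = a.U := Scheme.Opens.range_ι _

/-- Lifting morphisms through an open immersion over `S`. -/
theorem exists_lift {A B C : Over S} (f : A ⟶ C) (g : B ⟶ C) (hg : IsOpenImmersion g.left)
    (h : Set.range f.left ⊆ Set.range g.left) : ∃ l : A ⟶ B, l ≫ g = f := by
  refine ⟨Over.homMk (IsOpenImmersion.lift g.left f.left h) ?_, ?_⟩
  · rw [← Over.w g, ← Category.assoc, IsOpenImmersion.lift_fac, Over.w f]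
  · apply Over.OverMorphism.ext
    exact IsOpenImmersion.lift_fac _ _ _

theorem cancel_open {A B C : Over S} (g : B ⟶ C) (hg : IsOpenImmersion g.left) {f f' : A ⟶ B}
    (h : f ≫ g = f' ≫ g) : f = f' := by
  apply Over.OverMorphism.ext
  rw [← cancel_mono g.left]
  exact congrArg (fun t => t.left) h

noncomputable instance : Category.{u} P.Idx where
  Hom a b := { g : P.obj a ⟶ P.obj b // P.W a.i b.i (P.obj a) (P.inc a) (g ≫ P.inc b) }
  id a := ⟨𝟙 _, by
    rw [Category.id_comp]
    exact P.refl _ inferInstance⟩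
  comp {a b c} g h := ⟨g.1 ≫ h.1, by
    have h1 : IsOpenImmersion (g.1 ≫ P.inc b).left := P.isOpenImmersion' g.2
    have h2 : IsOpenImmersion g.1.left := by
      rw [Over.comp_left] at h1
      exact IsOpenImmersion.of_comp _ (P.inc b).left
    rw [Category.assoc]
    exact P.trans g.2 (P.restrict h.2 g.1 h2)⟩
  id_comp f := Subtype.ext (Category.id_comp _)
  comp_id f := Subtype.ext (Category.comp_id _)
  assoc f g h := Subtype.ext (Category.assoc _ _ _)

theorem hom_isOpenImmersion {a b : P.Idx} (g : a ⟶ b) : IsOpenImmersion g.1.left := by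
  have h1 : IsOpenImmersion (g.1 ≫ P.inc b).left := P.isOpenImmersion' g.2
  rw [Over.comp_left] at h1
  exact IsOpenImmersion.of_comp _ (P.inc b).left

instance : Quiver.IsThin P.Idx := fun a b => ⟨fun g h => by
  apply Subtype.ext
  exact cancel_open (P.inc b) inferInstance (P.uniq g.2 h.2)⟩

/-- The diagram to be glued. -/
noncomputable def diag : P.Idx ⥤ Scheme.{u} where
  obj a := (P.obj a).left
  map g := g.1.left
  map_id _ := rfl
  map_comp _ _ := rfl

instance {a b : P.Idx} (g : a ⟶ b) : IsOpenImmersion (P.diag.map g) := P.hom_isOpenImmersion g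

/-- Any span of the class is isomorphic to a pair of morphisms from one open of the first chart. -/
theorem exists_idx {i j : ι} {V : Over S} {v : V ⟶ Y i} {g : V ⟶ Y j} (h : P.W i j V v g) :
    ∃ (U : (Y i).left.Opens) (e : V ⟶ P.obj ⟨i, U⟩) (e' : P.obj ⟨i, U⟩ ⟶ V), e ≫ e' = 𝟙 _ ∧ e' ≫ e = 𝟙 _ ∧
      e ≫ P.inc ⟨i, U⟩ = v ∧ e' ≫ v = P.inc ⟨i, U⟩ ∧ P.W i j (P.obj ⟨i, U⟩) (P.inc ⟨i, U⟩) (e' ≫ g) := by
  have hv : IsOpenImmersion v.left := P.isOpenImmersion h
  let U : (Y i).left.Opens := v.left.opensRange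
  have h1 : Set.range v.left = Set.range (P.inc ⟨i, U⟩).left := by
    rw [P.range_inc]; rfl
  obtain ⟨e, he⟩ := exists_lift v (P.inc ⟨i, U⟩) inferInstance h1.le
  obtain ⟨e', he'⟩ := exists_lift (P.inc ⟨i, U⟩) v hv h1.ge
  have h2 : e ≫ e' = 𝟙 _ := by
    apply cancel_open v hv
    rw [Category.assoc, he', he, Category.id_comp]
  have h3 : e' ≫ e = 𝟙 _ := by
    apply cancel_open (P.inc ⟨i, U⟩) inferInstance
    rw [Category.assoc, he, he', Category.id_comp]
  refine ⟨U, e, e', h2, h3, he, he', ?_⟩
  have h4 : IsOpenImmersion e'.left := by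
    have : IsIso e'.left := ⟨e.left, by rw [← Over.comp_left, h3]; rfl, by rw [← Over.comp_left, h2]; rfl⟩
    infer_instance
  have h5 := P.restrict h e' h4
  rwa [he'] at h5

instance : (P.diag ⋙ Scheme.forget).IsLocallyDirected where
  cond {a b c} fa fb xa xb hx := by
    have hx' : (fa.1.left) xa = (fb.1.left) xb := hx
    have := P.hom_isOpenImmersion fa
    have := P.hom_isOpenImmersion fb
    let O : (P.obj c).left.Opens := fa.1.left.opensRange ⊓ fb.1.left.opensRange
    let o : Over.mk (O.ι ≫ (P.obj c).hom) ⟶ P.obj c := Over.homMk O.ι rfl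
    have ho : IsOpenImmersion o.left := inferInstanceAs (IsOpenImmersion O.ι)
    let v : Over.mk (O.ι ≫ (P.obj c).hom) ⟶ Y c.i := o ≫ P.inc c
    have hr : Set.range o.left = (O : Set _) := Scheme.Opens.range_ι _
    obtain ⟨la, hla⟩ := exists_lift o fa.1 inferInstance (by
      rw [hr]
      exact fun x hx => hx.1)
    obtain ⟨lb, hlb⟩ := exists_lift o fb.1 inferInstance (by
      rw [hr]
      exact fun x hx => hx.2)
    have hla' : IsOpenImmersion la.left := by
      have h1 : IsOpenImmersion (la.left ≫ fa.1.left) := by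
        rw [← Over.comp_left, hla]; exact ho
      exact IsOpenImmersion.of_comp _ fa.1.left
    have hlb' : IsOpenImmersion lb.left := by
      have h1 : IsOpenImmersion (lb.left ≫ fb.1.left) := by
        rw [← Over.comp_left, hlb]; exact ho
      exact IsOpenImmersion.of_comp _ fb.1.left
    have hv : IsOpenImmersion v.left := by
      change IsOpenImmersion (o.left ≫ (P.inc c).left)
      infer_instance
    have wa : P.W c.i a.i _ v (la ≫ P.inc a) := by
      have := P.restrict (P.symm fa.2) la hla'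
      rwa [← Category.assoc, hla] at this
    have wb : P.W c.i b.i _ v (lb ≫ P.inc b) := by
      have := P.restrict (P.symm fb.2) lb hlb'
      rwa [← Category.assoc, hlb] at this
    obtain ⟨U, e, e', h1, h2, h3, h4, h5⟩ := P.exists_idx wa
    have h4' : IsOpenImmersion e'.left := by
      have : IsIso e'.left := ⟨e.left, by rw [← Over.comp_left, h2]; rfl, by rw [← Over.comp_left, h1]; rfl⟩
      infer_instance
    have h6 := P.restrict wb e' h4'
    rw [h4] at h6
    obtain ⟨y, hy⟩ : (fa.1.left) xa ∈ Set.range o.left := by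
      rw [hr]
      exact ⟨⟨xa, rfl⟩, ⟨xb, hx'.symm⟩⟩
    refine ⟨⟨c.i, U⟩, ⟨e' ≫ la, by rwa [Category.assoc]⟩, ⟨e' ≫ lb, by rwa [Category.assoc]⟩, e.left y, ?_, ?_⟩
    · change (e' ≫ la).left (e.left y) = xa
      rw [← Scheme.Hom.comp_apply, ← Over.comp_left, ← Category.assoc, h1, Category.id_comp]
      apply fa.1.left.isOpenEmbedding.injective
      rw [← Scheme.Hom.comp_apply, ← Over.comp_left, hla, hy]
    · change (e' ≫ lb).left (e.left y) = xb
      rw [← Scheme.Hom.comp_apply, ← Over.comp_left, ← Category.assoc, h1, Category.id_comp]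
      apply fb.1.left.isOpenEmbedding.injective
      rw [← Scheme.Hom.comp_apply, ← Over.comp_left, hlb, hy, hx']

/-- The cocone of structure morphisms. -/
noncomputable def toBase : colimit P.diag ⟶ S :=
  colimit.desc P.diag
    { pt := S
      ι := { app := fun a => (P.obj a).hom
             naturality := fun a b g => by
               change g.1.left ≫ (P.obj b).hom = (P.obj a).hom ≫ 𝟙 _
               rw [Over.w, Category.comp_id] } }

/-- The glued scheme. -/
noncomputable def glued : Over S := Over.mk P.toBase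

theorem ι_toBase (a : P.Idx) : colimit.ι P.diag a ≫ P.toBase = (P.obj a).hom := by
  rw [toBase, colimit.ι_desc]

/-- The whole chart as an index. -/
def top (i : ι) : P.Idx := ⟨i, ⊤⟩

/-- The inclusion of the whole chart. -/
noncomputable def incTop (i : ι) : P.obj (P.top i) ⟶ Y i := P.inc (P.top i)

instance isIso_incTop_left (i : ι) : IsIso (P.incTop i).left := (Scheme.topIso (Y i).left).isIso_hom

instance isIso_incTop (i : ι) : IsIso (P.incTop i) := by
  have : IsIso ((Over.forget S).map (P.incTop i)) := P.isIso_incTop_left i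
  exact isIso_of_reflects_iso _ (Over.forget S)

/-- The inclusion of a piece. -/
noncomputable def fromObj (a : P.Idx) : P.obj a ⟶ P.glued := Over.homMk (colimit.ι P.diag a) (P.ι_toBase a)

instance (a : P.Idx) : IsOpenImmersion (P.fromObj a).left :=
  inferInstanceAs (IsOpenImmersion (colimit.ι P.diag a))

theorem fromObj_w {a b : P.Idx} (g : a ⟶ b) : g.1 ≫ P.fromObj b = P.fromObj a := by
  apply Over.OverMorphism.ext
  exact colimit.w P.diag g

/-- The charts of the glued scheme. -/
noncomputable def chart (i : ι) : Y i ⟶ P.glued := inv (P.incTop i) ≫ P.fromObj (P.top i)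

instance (i : ι) : IsOpenImmersion (P.chart i).left := by
  have : IsIso (inv (P.incTop i)).left :=
    inferInstanceAs (IsIso ((Over.forget S).map (inv (P.incTop i))))
  change IsOpenImmersion ((inv (P.incTop i)).left ≫ (P.fromObj (P.top i)).left)
  infer_instance

theorem incTop_chart (i : ι) : P.incTop i ≫ P.chart i = P.fromObj (P.top i) := by
  rw [chart, IsIso.hom_inv_id_assoc]

/-- A piece maps to the charts on both sides of a span. -/
theorem fromObj_eq {i j : ι} {U : (Y i).left.Opens} {g : P.obj ⟨i, U⟩ ⟶ Y j}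
    (h : P.W i j (P.obj ⟨i, U⟩) (P.inc ⟨i, U⟩) g) : g ≫ P.chart j = P.fromObj ⟨i, U⟩ := by
  let f : (⟨i, U⟩ : P.Idx) ⟶ P.top j := ⟨g ≫ inv (P.incTop j), by
    have h1 : (g ≫ inv (P.incTop j)) ≫ P.incTop j = g := by
      rw [Category.assoc, IsIso.inv_hom_id, Category.comp_id]
    change P.W i j (P.obj ⟨i, U⟩) (P.inc ⟨i, U⟩) ((g ≫ inv (P.incTop j)) ≫ P.incTop j)
    rw [h1]
    exact h⟩
  rw [← P.fromObj_w f]
  change g ≫ inv (P.incTop j) ≫ P.fromObj (P.top j) = (g ≫ inv (P.incTop j)) ≫ P.fromObj (P.top j)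
  rw [Category.assoc]

theorem inc_chart (i : ι) (U : (Y i).left.Opens) : P.inc ⟨i, U⟩ ≫ P.chart i = P.fromObj ⟨i, U⟩ :=
  P.fromObj_eq (P.refl _ inferInstance)

/-- The spans of the class commute in the glued scheme. -/
theorem glue_condition {i j : ι} {V : Over S} {v : V ⟶ Y i} {g : V ⟶ Y j} (h : P.W i j V v g) :
    v ≫ P.chart i = g ≫ P.chart j := by
  obtain ⟨U, e, e', h1, h2, h3, h4, h5⟩ := P.exists_idx h
  have h6 := P.fromObj_eq h5
  rw [← P.inc_chart] at h6
  calc v ≫ P.chart i = e ≫ P.inc ⟨i, U⟩ ≫ P.chart i := by rw [← Category.assoc, h3]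
    _ = e ≫ (e' ≫ g) ≫ P.chart j := by rw [h6]
    _ = g ≫ P.chart j := by rw [Category.assoc, ← Category.assoc e, h1, Category.id_comp]

theorem chart_surjective (x : P.glued.left) : ∃ (i : ι) (y : (Y i).left), (P.chart i).left y = x := by
  obtain ⟨a, y, hy⟩ := Scheme.IsLocallyDirected.ι_jointly_surjective P.diag x
  refine ⟨a.i, (P.inc a).left y, ?_⟩
  rw [← Scheme.Hom.comp_apply, ← Over.comp_left, P.inc_chart a.i a.U]
  exact hy

theorem chart_eq_chart {i j : ι} {x : (Y i).left} {y : (Y j).left}
    (h : (P.chart i).left x = (P.chart j).left y) :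
    ∃ (V : Over S) (v : V ⟶ Y i) (g : V ⟶ Y j), P.W i j V v g ∧ ∃ z : V.left, v.left z = x ∧ g.left z = y := by
  let x' : (P.obj (P.top i)).left := (inv (P.incTop i)).left x
  let y' : (P.obj (P.top j)).left := (inv (P.incTop j)).left y
  have h' : colimit.ι P.diag (P.top i) x' = colimit.ι P.diag (P.top j) y' := h
  rw [Scheme.IsLocallyDirected.ι_eq_ι_iff] at h'
  obtain ⟨k, fi, fj, z, hz1, hz2⟩ := h'
  refine ⟨P.obj k, fi.1 ≫ P.inc (P.top i), fj.1 ≫ P.inc (P.top j), P.trans (P.symm fi.2) fj.2, z, ?_, ?_⟩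
  · have hz1' : fi.1.left z = x' := hz1
    rw [Over.comp_left, Scheme.Hom.comp_apply, hz1']
    change ((inv (P.incTop i)) ≫ P.incTop i).left x = x
    rw [IsIso.inv_hom_id]
    rfl
  · have hz2' : fj.1.left z = y' := hz2
    rw [Over.comp_left, Scheme.Hom.comp_apply, hz2']
    change ((inv (P.incTop j)) ≫ P.incTop j).left y = y
    rw [IsIso.inv_hom_id]
    rfl

end SpanSystem

end Groth.Agent.Sga7.H524.GlueSpans
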