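import Mathlib.AlgebraicGeometry.Geometrically.Irreducible
import Mathlib.RingTheory.LocalRing.ResidueField.Basic

/-!
# Base changes of a scheme with geometrically irreducible closed fibre
-/

set_option autoImplicit false

universe u

open CategoryTheory CategoryTheory.Limits AlgebraicGeometry

namespace Groth.Agent.Sga7.H524.Irred

/-- A field-valued point at the closed point of a local scheme factors through the residue field. -/
theorem exists_factor {R κ : Type u} [CommRing R] [IsLocalRing R] [Field κ]
    (t : Spec (CommRingCat.of κ) ⟶ Spec (CommRingCat.of R))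
    (ht : t (IsLocalRing.closedPoint κ) = IsLocalRing.closedPoint R) :
    ∃ t' : Spec (CommRingCat.of κ) ⟶ Spec (CommRingCat.of (IsLocalRing.ResidueField R)),
      t' ≫ Spec.map (CommRingCat.ofHom (algebraMap R (IsLocalRing.ResidueField R))) = t := by
  obtain ⟨ψ, rfl⟩ := Spec.map_surjective t
  have hκ : ∀ r ∈ IsLocalRing.maximalIdeal R, ψ.hom r = 0 := by
    intro r hr
    have h1 : r ∈ (IsLocalRing.closedPoint R).asIdeal := hr
    rw [← ht] at h1
    have h2 : ψ.hom r ∈ IsLocalRing.maximalIdeal κ := h1
    rwa [IsLocalRing.maximalIdeal_eq_bot, Ideal.mem_bot] at h2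
  refine ⟨Spec.map (CommRingCat.ofHom (Ideal.Quotient.lift (IsLocalRing.maximalIdeal R) ψ.hom hκ)), ?_⟩
  rw [← Spec.map_comp]
  congr 1

/-- The base change to a field over the residue field of a scheme with geometrically irreducible closed fibre is
irreducible. -/
theorem irreducibleSpace_pullback {R : Type u} [CommRing R] [IsLocalRing R] {U : Scheme.{u}}
    (p : U ⟶ Spec (CommRingCat.of R))
    (h : GeometricallyIrreducible (pullback.snd p
      (Spec.map (CommRingCat.ofHom (algebraMap R (IsLocalRing.ResidueField R))))))
    (κ : Type u) [Field κ] (t : Spec (CommRingCat.of κ) ⟶ Spec (CommRingCat.of R))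
    (ht : t (IsLocalRing.closedPoint κ) = IsLocalRing.closedPoint R) : IrreducibleSpace ↥(pullback p t) := by
  obtain ⟨t', rfl⟩ := exists_factor t ht
  let s := Spec.map (CommRingCat.ofHom (algebraMap R (IsLocalRing.ResidueField R)))
  let q : pullback p (t' ≫ s) ⟶ pullback p s :=
    pullback.lift (pullback.fst _ _) (pullback.snd _ _ ≫ t') (by rw [pullback.condition, Category.assoc])
  have hq : q ≫ pullback.fst p s = pullback.fst p (t' ≫ s) := pullback.lift_fst _ _ _
  have hq' : q ≫ pullback.snd p s = pullback.snd p (t' ≫ s) ≫ t' := pullback.lift_snd _ _ _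
  have h1 : IsPullback q (pullback.snd p (t' ≫ s)) (pullback.snd p s) t' := by
    refine IsPullback.of_right (h₁₂ := pullback.fst p s) (h₂₂ := s) (v₁₃ := p) ?_ hq'
      (IsPullback.of_hasPullback p s)
    rw [hq]
    exact IsPullback.of_hasPullback p (t' ≫ s)
  exact h.geometrically_irreducibleSpace _ _ _ h1

end Groth.Agent.Sga7.H524.Irred
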