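import Groth.Agent.Sga7.H524.GenSec
import Groth.Agent.Sga7.H524.Dense

/-!
# Partial group laws over a strictly henselian discrete valuation ring

`Law A`: smooth charts `T, X, U` over `R` of the group `A` over `K` and a partially defined multiplication
`T × X ⊇ D ⟶ U` such that `(t, x) ↦ (t, t x)` and `(t, x) ↦ (t x, x)` are open immersions and every point of the
closed fibre of `X` is the second component of a point of `D`.

`Law.exists_span`: two points `x, y` of `X` with values in a local ring `B` dominating `R` which generically differ by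
the left translation by a constant `c₀ ∈ A(K)` lie on a span `X ← V → X` of open immersions extending this translation.
-/

set_option autoImplicit false

universe u

open CategoryTheory CategoryTheory.Limits MonoidalCategory CartesianMonoidalCategory AlgebraicGeometry MonObj

namespace Groth.Agent.Sga7.H524.Law

open Groth.Agent.Dix.GenFibre Groth.Agent.Dix.GenOpen GenSec OverOpen

/-- A partially defined multiplication on charts of `A`. -/
structure LawData (R : Type u) [CommRing R] [IsLocalRing R]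
    (A : Over (Spec (CommRingCat.of (FractionRing R)))) [GrpObj A] where
  T : Over (Spec (CommRingCat.of R))
  X : Over (Spec (CommRingCat.of R))
  U : Over (Spec (CommRingCat.of R))
  D : Over (Spec (CommRingCat.of R))
  ξT : (Neron.genericFibre R).obj T ⟶ A
  ξX : (Neron.genericFibre R).obj X ⟶ A
  ξU : (Neron.genericFibre R).obj U ⟶ A
  pT : D ⟶ T
  pX : D ⟶ X
  m : D ⟶ U
  smooth_T : Smooth T.hom
  openT : IsOpenImmersion ξT.left
  open₁ : IsOpenImmersion (lift pT pX).left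
  open₂ : IsOpenImmersion (lift pT m).left
  open₃ : IsOpenImmersion (lift m pX).left
  law : (Neron.genericFibre R).map m ≫ ξU =
    ((Neron.genericFibre R).map pT ≫ ξT) * ((Neron.genericFibre R).map pX ≫ ξX)
  surj : ∀ x : X.left, X.hom x = IsLocalRing.closedPoint R → ∃ d : D.left, pX.left d = x
  irred : ∀ (κ : Type u) [Field κ] (t : Spec (CommRingCat.of κ) ⟶ Spec (CommRingCat.of R)),
    t (IsLocalRing.closedPoint κ) = IsLocalRing.closedPoint R → PreirreducibleSpace ↥(pullback U.hom t)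

variable {R : Type u} [CommRing R] [IsDomain R] [IsDiscreteValuationRing R]
  {A : Over (Spec (CommRingCat.of (FractionRing R)))} [GrpObj A] (L : LawData R A)

/-- Lifting a point with values in a local ring through an open immersion. -/
theorem exists_lift_over {S : Scheme.{u}} {B κ : Type u} [CommRing B] [IsLocalRing B] [Field κ]
    {b : Spec (CommRingCat.of B) ⟶ S} {t : Spec (CommRingCat.of κ) ⟶ S} (s : Over.mk t ⟶ Over.mk b)
    (hs : s.left (IsLocalRing.closedPoint κ) = IsLocalRing.closedPoint B) {D P : Over S}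
    (f : Over.mk b ⟶ P) (j : D ⟶ P) (hj : IsOpenImmersion j.left) (d : Over.mk t ⟶ D) (h : s ≫ f = d ≫ j) :
    ∃ l : Over.mk b ⟶ D, l ≫ j = f ∧ s ≫ l = d := by
  have h1 : f.left (IsLocalRing.closedPoint B) ∈ Set.range j.left := by
    rw [← hs, ← Scheme.Hom.comp_apply, ← Over.comp_left, h, Over.comp_left, Scheme.Hom.comp_apply]
    exact ⟨_, rfl⟩
  obtain ⟨l, hl⟩ := LocalPts.exists_lift_of_closedPoint (B := CommRingCat.of B) f.left j.left h1
  have hl' : (Over.homMk l (by rw [← Over.w j, ← Category.assoc, hl, Over.w f]) : Over.mk b ⟶ D) ≫ j = f := by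
    apply Over.OverMorphism.ext
    exact hl
  refine ⟨_, hl', ?_⟩
  apply Over.OverMorphism.ext
  rw [← cancel_mono j.left, ← Over.comp_left, ← Over.comp_left, Category.assoc, hl', h]

theorem exists_point (hR : EtCoh.IsStrictlyHenselianLocalRing R) {κ : Type u} [Field κ]
    (t : Spec (CommRingCat.of κ) ⟶ Spec (CommRingCat.of R))
    (ht : t (IsLocalRing.closedPoint κ) = IsLocalRing.closedPoint R) (x₀ y₀ : Over.mk t ⟶ L.X) :
    ∃ (c : 𝟙_ (Over (Spec (CommRingCat.of R))) ⟶ L.T) (d d' : Over.mk t ⟶ L.D),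
      d ≫ L.pT = toUnit _ ≫ c ∧ d ≫ L.pX = y₀ ∧ d' ≫ L.pX = x₀ ∧ d' ≫ L.m = d ≫ L.m := by
  have h₁ := L.open₁
  have h₃ := L.open₃
  have hT := L.smooth_T
  let Q : Over (Spec (CommRingCat.of R)) := Over.mk t
  let W₁ := pullback L.pX y₀
  let W₂ := pullback L.pX x₀
  have hW₁ : IsPullback (pullback.fst L.pX y₀) (pullback.snd L.pX y₀) L.pX y₀ := IsPullback.of_hasPullback _ _
  have hW₂ : IsPullback (pullback.fst L.pX x₀) (pullback.snd L.pX x₀) L.pX x₀ := IsPullback.of_hasPullback _ _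
  let j₁ : W₁ ⟶ L.U ⊗ Q := lift (pullback.fst L.pX y₀ ≫ L.m) (pullback.snd L.pX y₀)
  let j₂ : W₂ ⟶ L.U ⊗ Q := lift (pullback.fst L.pX x₀ ≫ L.m) (pullback.snd L.pX x₀)
  have hj₁ : IsOpenImmersion j₁.left := lift_of_isPullback hW₁ h₃
  have hj₂ : IsOpenImmersion j₂.left := lift_of_isPullback hW₂ h₃
  let i₁ : W₁ ⟶ L.T ⊗ Q := lift (pullback.fst L.pX y₀ ≫ L.pT) (pullback.snd L.pX y₀)
  have hi₁ : IsOpenImmersion i₁.left := lift_of_isPullback hW₁ h₁
  have hne : ∀ z : Over.mk t ⟶ L.X, Nonempty (pullback L.pX z).left := by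
    intro z
    have h1 : L.X.hom (z.left (IsLocalRing.closedPoint κ)) = IsLocalRing.closedPoint R := by
      rw [← Scheme.Hom.comp_apply, Over.w]
      exact ht
    obtain ⟨d, hd⟩ := L.surj _ h1
    have h2 : IsPullback (pullback.fst L.pX z).left (pullback.snd L.pX z).left L.pX.left z.left :=
      (IsPullback.of_hasPullback L.pX z).map (Over.forget _)
    obtain ⟨w, -, -⟩ := Scheme.exists_preimage_of_isPullback h2 d _ hd
    exact ⟨w⟩
  obtain ⟨w₁⟩ := hne y₀
  obtain ⟨w₂⟩ := hne x₀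
  have hirr : PreirreducibleSpace ↥(L.U ⊗ Q).left := L.irred κ t ht
  obtain ⟨q, ⟨a₁, ha₁⟩, ⟨a₂, ha₂⟩⟩ := nonempty_preirreducible_inter
    (s := Set.range j₁.left) (t := Set.range j₂.left) j₁.left.isOpenEmbedding.isOpen_range
    j₂.left.isOpenEmbedding.isOpen_range ⟨_, ⟨w₁, rfl⟩⟩ ⟨_, ⟨w₂, rfl⟩⟩
  let O := pullback j₁ j₂
  have hO : IsPullback (pullback.fst j₁ j₂) (pullback.snd j₁ j₂) j₁ j₂ := IsPullback.of_hasPullback _ _
  have hO' : IsPullback (pullback.fst j₁ j₂).left (pullback.snd j₁ j₂).left j₁.left j₂.left :=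
    hO.map (Over.forget _)
  obtain ⟨o, -, -⟩ := Scheme.exists_preimage_of_isPullback hO' a₁ a₂ (ha₁.trans ha₂.symm)
  have hOne : Nonempty O.left := ⟨o⟩
  have ho₁ : IsOpenImmersion (pullback.fst j₁ j₂).left := of_isPullback hO.flip hj₂
  let k : O ⟶ L.T ⊗ Q := pullback.fst j₁ j₂ ≫ i₁
  have hk : IsOpenImmersion k.left := OverOpen.comp ho₁ hi₁
  obtain ⟨c, s, hc, hs1, hs2⟩ := Dense.exists_section_dense hR L.T.hom t ht
    (o := (k.left : O.left ⟶ pullback L.T.hom t))
  let c' : 𝟙_ (Over (Spec (CommRingCat.of R))) ⟶ L.T := Over.homMk c hc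
  have hs2' : s ≫ (k ≫ snd L.T Q).left = 𝟙 _ := hs2
  let s' : Over.mk t ⟶ O := Over.homMk s (by
    rw [← Over.w (k ≫ snd L.T Q)]
    change s ≫ (k ≫ snd L.T Q).left ≫ t = t
    rw [← Category.assoc, hs2', Category.id_comp])
  have hs'2 : s' ≫ k ≫ snd L.T Q = 𝟙 _ := by
    apply Over.OverMorphism.ext
    exact hs2'
  have hs'1 : s' ≫ k ≫ fst L.T Q = toUnit _ ≫ c' := by
    apply Over.OverMorphism.ext
    exact hs1
  have e1 : k ≫ snd L.T Q = pullback.fst j₁ j₂ ≫ pullback.snd L.pX y₀ := by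
    simp only [k, i₁, Category.assoc, lift_snd]
  have e2 : k ≫ fst L.T Q = pullback.fst j₁ j₂ ≫ pullback.fst L.pX y₀ ≫ L.pT := by
    simp only [k, i₁, Category.assoc, lift_fst]
  have e3 : pullback.fst j₁ j₂ ≫ pullback.snd L.pX y₀ = pullback.snd j₁ j₂ ≫ pullback.snd L.pX x₀ := by
    have := congrArg (fun t => t ≫ snd L.U Q) hO.w
    simpa [j₁, j₂] using this
  have e4 : pullback.fst j₁ j₂ ≫ pullback.fst L.pX y₀ ≫ L.m =
      pullback.snd j₁ j₂ ≫ pullback.fst L.pX x₀ ≫ L.m := by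
    have := congrArg (fun t => t ≫ fst L.U Q) hO.w
    simpa [j₁, j₂] using this
  refine ⟨c', s' ≫ pullback.fst j₁ j₂ ≫ pullback.fst L.pX y₀,
    s' ≫ pullback.snd j₁ j₂ ≫ pullback.fst L.pX x₀, ?_, ?_, ?_, ?_⟩
  · rw [← hs'1, e2]
    simp only [Category.assoc]
  · rw [Category.assoc, Category.assoc, pullback.condition, ← Category.assoc (pullback.fst j₁ j₂), ← e1,
      ← Category.assoc s', hs'2, Category.id_comp]
  · rw [Category.assoc, Category.assoc, pullback.condition, ← Category.assoc (pullback.snd j₁ j₂), ← e3, ← e1,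
      ← Category.assoc s', hs'2, Category.id_comp]
  · rw [Category.assoc, Category.assoc, Category.assoc, Category.assoc, e4]

/-- The span extending the translation by `c₀` through two points which generically differ by `c₀`. -/
theorem exists_span (hR : EtCoh.IsStrictlyHenselianLocalRing R) {B F₁ : Type u} [CommRing B] [IsLocalRing B]
    [Field F₁] (φ : B →+* F₁) (hφ : Function.Injective φ)
    (b : Spec (CommRingCat.of B) ⟶ Spec (CommRingCat.of R))
    (hb : b (IsLocalRing.closedPoint B) = IsLocalRing.closedPoint R)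
    (hgen : (Spec.map (CommRingCat.ofHom φ) ≫ b) (IsLocalRing.closedPoint F₁) ∈ genOpen R)
    (x y : Over.mk b ⟶ L.X) (c₀ : 𝟙_ (Over (Spec (CommRingCat.of (FractionRing R)))) ⟶ A)
    (hxy : (Neron.genericFibre R).map ((Over.homMk (Spec.map (CommRingCat.ofHom φ)) rfl :
        Over.mk (Spec.map (CommRingCat.ofHom φ) ≫ b) ⟶ Over.mk b) ≫ y) ≫ L.ξX = (toUnit _ ≫ c₀) *
      ((Neron.genericFibre R).map ((Over.homMk (Spec.map (CommRingCat.ofHom φ)) rfl :
        Over.mk (Spec.map (CommRingCat.ofHom φ) ≫ b) ⟶ Over.mk b) ≫ x) ≫ L.ξX)) :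
    ∃ (V : Over (Spec (CommRingCat.of R))) (v g : V ⟶ L.X) (ω : Over.mk b ⟶ V),
      IsOpenImmersion v.left ∧ IsOpenImmersion g.left ∧
      (Neron.genericFibre R).map g ≫ L.ξX = (toUnit _ ≫ c₀) * ((Neron.genericFibre R).map v ≫ L.ξX) ∧
      ω ≫ v = x ∧ ω ≫ g = y := by
  have h₁ := L.open₁
  have h₂ := L.open₂
  have h₃ := L.open₃
  have hT := L.openT
  let SF : Over (Spec (CommRingCat.of R)) := Over.mk (Spec.map (CommRingCat.ofHom φ) ≫ b)
  let f : SF ⟶ Over.mk b := Over.homMk (Spec.map (CommRingCat.ofHom φ)) rfl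
  have hxy : (Neron.genericFibre R).map (f ≫ y) ≫ L.ξX = (toUnit _ ≫ c₀) *
      ((Neron.genericFibre R).map (f ≫ x) ≫ L.ξX) := hxy
  let κ := IsLocalRing.ResidueField B
  let t : Spec (CommRingCat.of κ) ⟶ Spec (CommRingCat.of R) :=
    Spec.map (CommRingCat.ofHom (IsLocalRing.residue B)) ≫ b
  let s : Over.mk t ⟶ Over.mk b := Over.homMk (Spec.map (CommRingCat.ofHom (IsLocalRing.residue B))) rfl
  have hs : s.left (IsLocalRing.closedPoint κ) = IsLocalRing.closedPoint B :=
    IsLocalRing.comap_closedPoint (IsLocalRing.residue B)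
  have ht : t (IsLocalRing.closedPoint κ) = IsLocalRing.closedPoint R := by
    rw [← hb, ← hs]
    rfl
  obtain ⟨c, d₀, d₀', e1, e2, e3, e4⟩ := exists_point L hR t ht (s ≫ x) (s ≫ y)
  -- the point `(c, y)` of `D`
  obtain ⟨d, hd, hsd⟩ := exists_lift_over s hs (lift (toUnit _ ≫ c) y) (lift L.pT L.pX) h₁ d₀ (by
    rw [comp_lift, comp_lift, e1, e2, ← Category.assoc s (toUnit _), toUnit_unique (s ≫ toUnit _) (toUnit _)])
  have hd1 : d ≫ L.pT = toUnit _ ≫ c := by
    have := congrArg (fun t => t ≫ fst _ _) hd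
    simpa using this
  have hd2 : d ≫ L.pX = y := by
    have := congrArg (fun t => t ≫ snd _ _) hd
    simpa using this
  -- the point `(c y x⁻¹, x)` of `D`
  obtain ⟨d', hd', -⟩ := exists_lift_over s hs (lift (d ≫ L.m) x) (lift L.m L.pX) h₃ d₀' (by
    rw [comp_lift, comp_lift, e3, e4, ← Category.assoc s, hsd])
  have hd'1 : d' ≫ L.m = d ≫ L.m := by
    have := congrArg (fun t => t ≫ fst _ _) hd'
    simpa using this
  have hd'2 : d' ≫ L.pX = x := by
    have := congrArg (fun t => t ≫ snd _ _) hd'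
    simpa using this
  -- its first component is generically constant
  have hlaw : ∀ {Z : Over (Spec (CommRingCat.of R))} (z : Z ⟶ L.D),
      (Neron.genericFibre R).map (z ≫ L.m) ≫ L.ξU =
        ((Neron.genericFibre R).map (z ≫ L.pT) ≫ L.ξT) * ((Neron.genericFibre R).map (z ≫ L.pX) ≫ L.ξX) := by
    intro Z z
    rw [Functor.map_comp, Category.assoc, L.law, comp_mul', Functor.map_comp, Functor.map_comp,
      Category.assoc, Category.assoc]
  have hδ : (Neron.genericFibre R).map (f ≫ d' ≫ L.pT) ≫ L.ξT = toUnit _ ≫ (val L.ξT c * c₀) := by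
    have g1 := hlaw (f ≫ d)
    have g2 := hlaw (f ≫ d')
    simp only [Category.assoc] at g1 g2
    rw [hd'1, g1, hd1, hd2, hd'2, hxy] at g2
    rw [← Category.assoc f (toUnit _), toUnit_unique (f ≫ toUnit _) (toUnit _), GenSec.map_const, ← _root_.mul_assoc] at g2
    rw [comp_mul']
    exact (mul_right_cancel g2).symm
  obtain ⟨σ, hσ1, hσ2⟩ := exists_section L.ξT φ hφ b hb hgen (d' ≫ L.pT) (val L.ξT c * c₀) hδ
  -- the span
  let Wc := pullback L.pT c
  let Wσ := pullback L.pT σ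
  have hWc : IsPullback (pullback.fst L.pT c) (pullback.snd L.pT c) L.pT c := IsPullback.of_hasPullback _ _
  have hWσ : IsPullback (pullback.fst L.pT σ) (pullback.snd L.pT σ) L.pT σ := IsPullback.of_hasPullback _ _
  have oc1 : IsOpenImmersion (pullback.fst L.pT c ≫ L.pX).left := comp_of_isPullback_section hWc h₁
  have oc2 : IsOpenImmersion (pullback.fst L.pT c ≫ L.m).left := comp_of_isPullback_section hWc h₂
  have os1 : IsOpenImmersion (pullback.fst L.pT σ ≫ L.pX).left := comp_of_isPullback_section hWσ h₁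
  have os2 : IsOpenImmersion (pullback.fst L.pT σ ≫ L.m).left := comp_of_isPullback_section hWσ h₂
  let Lc : Wc ⟶ L.U := pullback.fst L.pT c ≫ L.m
  let Lσ : Wσ ⟶ L.U := pullback.fst L.pT σ ≫ L.m
  let V := pullback Lσ Lc
  have hV : IsPullback (pullback.fst Lσ Lc) (pullback.snd Lσ Lc) Lσ Lc := IsPullback.of_hasPullback _ _
  have ov1 : IsOpenImmersion (pullback.fst Lσ Lc).left := of_isPullback hV.flip oc2
  have ov2 : IsOpenImmersion (pullback.snd Lσ Lc).left := of_isPullback hV os2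
  let ωc : Over.mk b ⟶ Wc := hWc.lift d (toUnit _) hd1
  let ωσ : Over.mk b ⟶ Wσ := hWσ.lift d' (toUnit _) hσ1.symm
  have hωc : ωc ≫ pullback.fst L.pT c = d := hWc.lift_fst _ _ _
  have hωσ : ωσ ≫ pullback.fst L.pT σ = d' := hWσ.lift_fst _ _ _
  let ω : Over.mk b ⟶ V := hV.lift ωσ ωc (by
    change ωσ ≫ pullback.fst L.pT σ ≫ L.m = ωc ≫ pullback.fst L.pT c ≫ L.m
    rw [← Category.assoc, hωσ, ← Category.assoc, hωc, hd'1])
  have hω1 : ω ≫ pullback.fst Lσ Lc = ωσ := hV.lift_fst _ _ _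
  have hω2 : ω ≫ pullback.snd Lσ Lc = ωc := hV.lift_snd _ _ _
  refine ⟨V, pullback.fst Lσ Lc ≫ pullback.fst L.pT σ ≫ L.pX, pullback.snd Lσ Lc ≫ pullback.fst L.pT c ≫ L.pX,
    ω, OverOpen.comp ov1 os1, OverOpen.comp ov2 oc1, ?_, ?_, ?_⟩
  · have g1 := hlaw (pullback.fst Lσ Lc ≫ pullback.fst L.pT σ)
    have g2 := hlaw (pullback.snd Lσ Lc ≫ pullback.fst L.pT c)
    have e5 : (pullback.fst Lσ Lc ≫ pullback.fst L.pT σ) ≫ L.m =
        (pullback.snd Lσ Lc ≫ pullback.fst L.pT c) ≫ L.m := by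
      rw [Category.assoc, Category.assoc]
      exact hV.w
    have e6 : (pullback.fst Lσ Lc ≫ pullback.fst L.pT σ) ≫ L.pT = toUnit _ ≫ σ := by
      rw [Category.assoc, hWσ.w, ← Category.assoc, toUnit_unique (pullback.fst Lσ Lc ≫ _) (toUnit _)]
    have e7 : (pullback.snd Lσ Lc ≫ pullback.fst L.pT c) ≫ L.pT = toUnit _ ≫ c := by
      rw [Category.assoc, hWc.w, ← Category.assoc, toUnit_unique (pullback.snd Lσ Lc ≫ _) (toUnit _)]
    rw [e5, g2, e6, e7, GenSec.map_const, GenSec.map_const, hσ2, comp_mul', _root_.mul_assoc] at g1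
    simp only [Category.assoc] at g1
    exact mul_left_cancel g1
  · rw [← Category.assoc, hω1, ← Category.assoc, hωσ, hd'2]
  · rw [← Category.assoc, hω2, ← Category.assoc, hωc, hd2]

end Groth.Agent.Sga7.H524.Law
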