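import Mathlib.AlgebraicGeometry.ResidueField
import Mathlib.AlgebraicGeometry.Stalk
import Mathlib.AlgebraicGeometry.AffineScheme
import Mathlib.RingTheory.DiscreteValuationRing.Basic
import Mathlib.RingTheory.Valuation.ValuationRing

/-!
# Points with values in local domains

* `exists_lift_of_closedPoint`: a morphism from the spectrum of a local ring factors through an open subscheme
  containing the image of the closed point.
* `exists_localDomain`: if `f z` specializes to `w` there is a local domain `B`, a field `F ⊇ B` and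
  `Spec B ⟶ W` mapping the closed point to `w` and given on `Spec F` by `f` and a point at `z`.
* `exists_section_of_compat`: `R` is the intersection of `K` and `B` for a local ring `B` dominating `R`.
-/

set_option autoImplicit false

universe u

open CategoryTheory CategoryTheory.Limits AlgebraicGeometry

namespace Groth.Agent.Sga7.H524.LocalPts

theorem range_subset_of_closedPoint {B : CommRingCat.{u}} [IsLocalRing B] {D P : Scheme.{u}}
    (f : Spec B ⟶ P) (j : D ⟶ P) [IsOpenImmersion j]
    (h : f (IsLocalRing.closedPoint B) ∈ Set.range j) : Set.range f ⊆ Set.range j := by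
  rintro _ ⟨z, rfl⟩
  have h1 : f z ⤳ f (IsLocalRing.closedPoint B) :=
    (IsLocalRing.specializes_closedPoint z).map f.continuous
  exact h1.mem_open j.isOpenEmbedding.isOpen_range h

theorem exists_lift_of_closedPoint {B : CommRingCat.{u}} [IsLocalRing B] {D P : Scheme.{u}}
    (f : Spec B ⟶ P) (j : D ⟶ P) [IsOpenImmersion j]
    (h : f (IsLocalRing.closedPoint B) ∈ Set.range j) : ∃ l : Spec B ⟶ D, l ≫ j = f :=
  ⟨IsOpenImmersion.lift j f (range_subset_of_closedPoint f j h), IsOpenImmersion.lift_fac _ _ _⟩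

theorem exists_localDomain {Z W : Scheme.{u}} (f : Z ⟶ W) (z : Z) (w : W) (h : f z ⤳ w) :
    ∃ (B F : Type u) (_ : CommRing B) (_ : IsLocalRing B) (_ : IsDomain B) (_ : Field F) (φ : B →+* F)
      (β : Spec (CommRingCat.of B) ⟶ W) (ζ : Spec (CommRingCat.of F) ⟶ Z),
      Function.Injective φ ∧ β (IsLocalRing.closedPoint B) = w ∧
        Spec.map (CommRingCat.ofHom φ) ≫ β = ζ ≫ f ∧ ∀ x, ζ x = z := by
  let φ₀ : W.presheaf.stalk w ⟶ Z.residueField z :=
    W.presheaf.stalkSpecializes h ≫ f.stalkMap z ≫ Z.residue z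
  let B := φ₀.hom.range
  let q : W.presheaf.stalk w →+* B := φ₀.hom.rangeRestrict
  have hq : Function.Surjective q := φ₀.hom.rangeRestrict_surjective
  have : IsLocalRing B := IsLocalRing.of_surjective' q hq
  refine ⟨B, Z.residueField z, inferInstance, inferInstance, inferInstance, inferInstance,
    B.subtype, Spec.map (CommRingCat.ofHom q) ≫ W.fromSpecStalk w, Z.fromSpecResidueField z,
    Subtype.val_injective, ?_, ?_, ?_⟩
  · rw [Scheme.Hom.comp_apply]
    have h1 : Spec.map (CommRingCat.ofHom q) (IsLocalRing.closedPoint B) =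
        IsLocalRing.closedPoint (W.presheaf.stalk w) := by
      have : IsLocalHom q := IsLocalHom.of_surjective q hq
      exact IsLocalRing.comap_closedPoint q
    rw [h1, Scheme.fromSpecStalk_closedPoint]
  · have h2 : CommRingCat.ofHom q ≫ CommRingCat.ofHom B.subtype = φ₀ := by
      ext x; rfl
    have h3 : Spec.map (CommRingCat.ofHom B.subtype) ≫ Spec.map (CommRingCat.ofHom q) = Spec.map φ₀ := by
      rw [← Spec.map_comp, h2]
    change Spec.map (CommRingCat.ofHom B.subtype) ≫ Spec.map (CommRingCat.ofHom q) ≫ _ = _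
    rw [reassoc_of% h3]
    simp only [φ₀, Spec.map_comp, Category.assoc]
    rw [Scheme.SpecMap_stalkSpecializes_fromSpecStalk, Scheme.SpecMap_stalkMap_fromSpecStalk]
    rfl
  · intro x
    exact Scheme.fromSpecResidueField_apply _ _

theorem exists_section_of_compat {R K B F : Type u} [CommRing R] [IsDomain R] [ValuationRing R]
    [Field K] [Algebra R K] [IsFractionRing R K] [CommRing B] [IsLocalRing B] [Field F]
    (ρ : R →+* B) [IsLocalHom ρ] (φ : B →+* F) (hφ : Function.Injective φ) (κ : K →+* F)
    (h : φ.comp ρ = κ.comp (algebraMap R K)) (T : Scheme.{u}) (δ : Spec (CommRingCat.of B) ⟶ T)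
    (τ : Spec (CommRingCat.of K) ⟶ T)
    (hδτ : Spec.map (CommRingCat.ofHom φ) ≫ δ = Spec.map (CommRingCat.ofHom κ) ≫ τ) :
    ∃ σ : Spec (CommRingCat.of R) ⟶ T, Spec.map (CommRingCat.ofHom ρ) ≫ σ = δ ∧
      Spec.map (CommRingCat.ofHom (algebraMap R K)) ≫ σ = τ := by
  obtain ⟨U, hU, hxU, -⟩ := exists_isAffineOpen_mem_and_subset
    (x := δ (IsLocalRing.closedPoint B)) (U := ⊤) trivial
  have hδU : Set.range δ ⊆ Set.range hU.fromSpec :=
    range_subset_of_closedPoint δ hU.fromSpec (by rw [hU.range_fromSpec]; exact hxU)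
  have hτU : Set.range τ ⊆ Set.range hU.fromSpec := by
    rintro _ ⟨x, rfl⟩
    let y : Spec (CommRingCat.of F) := (⊥ : PrimeSpectrum F)
    have hx : x = Spec.map (CommRingCat.ofHom κ) y :=
      Subsingleton.elim (α := PrimeSpectrum K) _ _
    rw [hx, ← Scheme.Hom.comp_apply, ← hδτ, Scheme.Hom.comp_apply]
    exact hδU ⟨_, rfl⟩
  obtain ⟨a, ha⟩ := Spec.map_surjective (IsOpenImmersion.lift hU.fromSpec δ hδU)
  obtain ⟨b, hb⟩ := Spec.map_surjective (IsOpenImmersion.lift hU.fromSpec τ hτU)
  have ha' : Spec.map a ≫ hU.fromSpec = δ := by rw [ha, IsOpenImmersion.lift_fac]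
  have hb' : Spec.map b ≫ hU.fromSpec = τ := by rw [hb, IsOpenImmersion.lift_fac]
  have hab : a ≫ CommRingCat.ofHom φ = b ≫ CommRingCat.ofHom κ := by
    apply Spec.map_injective
    rw [← cancel_mono hU.fromSpec, Spec.map_comp, Spec.map_comp, Category.assoc, Category.assoc, ha', hb',
      hδτ]
  have hab' : ∀ c, φ (a.hom c) = κ (b.hom c) := fun c => ConcreteCategory.congr_hom hab c
  have hR : Function.Injective (algebraMap R K) := IsFractionRing.injective R K
  have key : ∀ c, b.hom c ∈ (algebraMap R K).range := by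
    intro c
    by_contra hc
    rcases ValuationRing.isInteger_or_isInteger R (b.hom c) with h1 | ⟨r, hr⟩
    · exact hc h1
    · have hne : b.hom c ≠ 0 := by
        intro h0
        exact hc ⟨0, by rw [map_zero, h0]⟩
      have h2 : a.hom c * ρ r = 1 := by
        apply hφ
        have h3 : φ (ρ r) = κ (algebraMap R K r) := DFunLike.congr_fun h r
        rw [map_mul, hab', h3, hr, ← map_mul, map_one, mul_inv_cancel₀ hne, map_one]
      have h4 : IsUnit (ρ r) := IsUnit.of_mul_eq_one _ ((mul_comm _ _).trans h2)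
      obtain ⟨s, hs⟩ := isUnit_of_map_unit ρ r h4
      apply hc
      refine ⟨((s⁻¹ : Rˣ) : R), ?_⟩
      have h5 : algebraMap R K ((s⁻¹ : Rˣ) : R) * algebraMap R K r = 1 := by
        rw [← map_mul, ← hs, Units.inv_mul, map_one]
      rw [hr] at h5
      field_simp at h5
      exact h5
  let e : R ≃+* (algebraMap R K).range := RingEquiv.ofBijective (algebraMap R K).rangeRestrict
    ⟨fun x y hxy => hR (congrArg Subtype.val hxy), (algebraMap R K).rangeRestrict_surjective⟩
  let b' : Γ(T, U) →+* R := e.symm.toRingHom.comp (b.hom.codRestrict (algebraMap R K).range key)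
  have hb1 : ∀ c, algebraMap R K (b' c) = b.hom c := fun c => by
    have h1 : e (b' c) = ⟨b.hom c, key c⟩ := e.apply_symm_apply _
    exact congrArg Subtype.val h1
  have hb2 : ∀ c, ρ (b' c) = a.hom c := fun c => by
    apply hφ
    have h3 : φ (ρ (b' c)) = κ (algebraMap R K (b' c)) := DFunLike.congr_fun h _
    rw [h3, hb1, hab']
  refine ⟨Spec.map (CommRingCat.ofHom b') ≫ hU.fromSpec, ?_, ?_⟩
  · rw [← Category.assoc, ← Spec.map_comp, ← ha']
    congr 2
    ext c
    exact hb2 c
  · rw [← Category.assoc, ← Spec.map_comp, ← hb']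
    congr 2
    ext c
    exact hb1 c

end Groth.Agent.Sga7.H524.LocalPts
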