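import Groth.Agent.Sga7.H524.GlueSep
import Groth.Agent.Sga7.H524.Law
import Groth.Agent.Sga7.H750.GenOv
import Mathlib.AlgebraicGeometry.Noetherian
import Mathlib.AlgebraicGeometry.Morphisms.Smooth

/-!
# N5: glueing of the translates of a chart

Let `R` be a strictly henselian discrete valuation ring, `A` a smooth separated group over the fraction field and
`L` a partial multiplication `T × X ⊇ D ⟶ U` on charts of `A` (`LawData`). Then the left translates `(X, a ξ)`,
`a ∈ A(K)`, and `A` glue to a smooth separated `R`-scheme with generic fibre `A`.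
-/

set_option autoImplicit false

universe u

open CategoryTheory CategoryTheory.Limits MonoidalCategory CartesianMonoidalCategory AlgebraicGeometry MonObj

namespace Groth.Agent.Sga7.H524.N5

open Groth.Agent.Dix.GenFibre Groth.Agent.Dix.GenOpen GenSec OverOpen Law GlueSpans

section General

variable {R : Type u} [CommRing R]

/-- The `R`-scheme underlying a scheme over the fraction field. -/
noncomputable abbrev toR (A : Over (Spec (CommRingCat.of (FractionRing R)))) : Over (Spec (CommRingCat.of R)) :=
  Over.mk (A.hom ≫ Neron.genPt R)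

/-- The restriction to `R` of a morphism over the fraction field. -/
noncomputable def toRmap {A B : Over (Spec (CommRingCat.of (FractionRing R)))} (f : A ⟶ B) : toR A ⟶ toR B :=
  Over.homMk f.left (by
    change f.left ≫ B.hom ≫ Neron.genPt R = A.hom ≫ Neron.genPt R
    rw [← Category.assoc, Over.w])

/-- The inclusion of the generic fibre as a morphism over `R`. -/
noncomputable def incl (Y : Over (Spec (CommRingCat.of R))) : toR ((Neron.genericFibre R).obj Y) ⟶ Y :=
  Over.homMk (genι Y) (isPullback_genι Y).w

variable [IsDomain R]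

/-- The generic fibre of `toR A` is `A`. -/
noncomputable def can (A : Over (Spec (CommRingCat.of (FractionRing R)))) :
    (Neron.genericFibre R).obj (toR A) ⟶ A :=
  Over.homMk (genι (toR A)) (by
    rw [← cancel_mono (Neron.genPt R), Category.assoc]
    exact (isPullback_genι (toR A)).w)

omit [IsDomain R] in
theorem can_left (A : Over (Spec (CommRingCat.of (FractionRing R)))) : (can A).left = genι (toR A) := rfl

instance isIso_can (A : Over (Spec (CommRingCat.of (FractionRing R)))) : IsIso (can A) := by
  let s : A ⟶ (Neron.genericFibre R).obj (toR A) :=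
    Over.homMk (pullback.lift (𝟙 _) A.hom (by rw [Category.id_comp]; rfl)) (pullback.lift_snd _ _ _)
  have hs : s ≫ can A = 𝟙 _ := by
    apply Over.OverMorphism.ext
    exact pullback.lift_fst _ _ _
  refine ⟨s, ?_, hs⟩
  apply Over.OverMorphism.ext
  rw [← cancel_mono (genι (toR A)), Over.comp_left, Category.assoc]
  have h1 : s.left ≫ genι (toR A) = 𝟙 _ := congrArg (fun t => t.left) hs
  rw [h1]
  exact (Category.comp_id _).trans (Category.id_comp _).symm

omit [IsDomain R] in
/-- A morphism to `Y` from a scheme over the fraction field, on generic fibres. -/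
theorem map_comp_left {A : Over (Spec (CommRingCat.of (FractionRing R)))} {Y : Over (Spec (CommRingCat.of R))}
    (f : A ⟶ (Neron.genericFibre R).obj Y) :
    (Neron.genericFibre R).map (toRmap f ≫ incl Y) = can A ≫ f := by
  apply Over.OverMorphism.ext
  rw [← cancel_mono (genι Y), genι_naturality]
  exact (Category.assoc _ _ _).symm

omit [IsDomain R] in
theorem map_toRmap {A B : Over (Spec (CommRingCat.of (FractionRing R)))} (f : A ⟶ B) :
    (Neron.genericFibre R).map (toRmap f) ≫ can B = can A ≫ f := by
  apply Over.OverMorphism.ext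
  rw [Over.comp_left, Over.comp_left, can_left, can_left]
  exact genι_naturality (toRmap f)

omit [IsDomain R] in
theorem map_incl (Y : Over (Spec (CommRingCat.of R))) :
    (Neron.genericFibre R).map (incl Y) = can ((Neron.genericFibre R).obj Y) := by
  have h := map_comp_left (𝟙 ((Neron.genericFibre R).obj Y))
  rw [Category.comp_id] at h
  rw [← h]
  congr 1

end General

section Charts

variable {R : Type u} [CommRing R] [IsDomain R] [IsDiscreteValuationRing R]
  {A : Over (Spec (CommRingCat.of (FractionRing R)))} {J : Type u}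

instance (Y : Over (Spec (CommRingCat.of R))) : IsOpenImmersion (incl Y).left :=
  MorphismProperty.of_isPullback (P := @IsOpenImmersion) (isPullback_genι Y).flip (isOpenImmersion_genPt R)

/-- The spans between charts which agree on the generic fibre. -/
def spans (Y : J → Over (Spec (CommRingCat.of R))) (ξ : ∀ i, (Neron.genericFibre R).obj (Y i) ⟶ A)
    (hflat : ∀ i, Flat (Y i).hom) (hsep : ∀ i, IsSeparated (Y i).hom) (hmono : ∀ i, Mono (ξ i)) :
    SpanSystem Y where
  W i j V v g := IsOpenImmersion v.left ∧ IsOpenImmersion g.left ∧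
    (Neron.genericFibre R).map v ≫ ξ i = (Neron.genericFibre R).map g ≫ ξ j
  isOpenImmersion h := h.1
  refl v hv := ⟨hv, hv, rfl⟩
  symm h := ⟨h.2.1, h.1, h.2.2.symm⟩
  restrict h _ f hf := ⟨OverOpen.comp hf h.1, OverOpen.comp hf h.2.1, by
    rw [Functor.map_comp, Functor.map_comp, Category.assoc, Category.assoc, h.2.2]⟩
  trans h h' := ⟨h.1, h'.2.1, h.2.2.trans h'.2.2⟩
  uniq {i j V v g g'} h h' := by
    have h1 : (Neron.genericFibre R).map g ≫ ξ j = (Neron.genericFibre R).map g' ≫ ξ j :=
      h.2.2.symm.trans h'.2.2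
    have := hmono j
    rw [cancel_mono] at h1
    have := hflat i
    have := hsep j
    have := h.1
    have : Flat V.hom := by
      rw [← Over.w v]
      infer_instance
    exact Groth.Agent.Dix.GenExtUniq.ext_of_genericFibre h1

end Charts

section Translations

variable {K : Type u} [Field K] {A : Over (Spec (CommRingCat.of K))} [GrpObj A]

/-- Left translation by a rational point. -/
noncomputable def tr (a : 𝟙_ (Over (Spec (CommRingCat.of K))) ⟶ A) : A ⟶ A := (toUnit _ ≫ a) * 𝟙 A

theorem comp_tr {Z : Over (Spec (CommRingCat.of K))} (f : Z ⟶ A)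
    (a : 𝟙_ (Over (Spec (CommRingCat.of K))) ⟶ A) : f ≫ tr a = (toUnit _ ≫ a) * f := by
  rw [tr, comp_mul', Category.comp_id, toUnit_comp']

theorem tr_comp (a b : 𝟙_ (Over (Spec (CommRingCat.of K))) ⟶ A) : tr a ≫ tr b = tr (b * a) := by
  rw [comp_tr, tr, tr, ← _root_.mul_assoc, ← comp_mul']

theorem tr_one : tr (1 : 𝟙_ (Over (Spec (CommRingCat.of K))) ⟶ A) = 𝟙 A := by
  have h : toUnit A ≫ (1 : 𝟙_ (Over (Spec (CommRingCat.of K))) ⟶ A) = 1 := by
    rw [Hom.one_def, Hom.one_def, ← Category.assoc, toUnit_unique (toUnit A ≫ _) (toUnit A)]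
  rw [tr, h, _root_.one_mul]

instance isIso_tr (a : 𝟙_ (Over (Spec (CommRingCat.of K))) ⟶ A) : IsIso (tr a) :=
  ⟨tr a⁻¹, by rw [tr_comp, inv_mul_cancel, tr_one], by rw [tr_comp, mul_inv_cancel, tr_one]⟩

end Translations

section Assembly

variable {R : Type u} [CommRing R] [IsDomain R] [IsDiscreteValuationRing R]
  {A : Over (Spec (CommRingCat.of (FractionRing R)))} [GrpObj A] (L : LawData R A)

/-- The charts to be glued: `A` and its translates. -/
noncomputable def chartY : Option (𝟙_ (Over (Spec (CommRingCat.of (FractionRing R)))) ⟶ A) →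
    Over (Spec (CommRingCat.of R))
  | none => toR A
  | some _ => L.X

/-- Their generic fibres. -/
noncomputable def chartξ : ∀ i, (Neron.genericFibre R).obj (chartY L i) ⟶ A
  | none => can A
  | some a => (toUnit _ ≫ a) * L.ξX

theorem chartξ_some (a : 𝟙_ (Over (Spec (CommRingCat.of (FractionRing R)))) ⟶ A) :
    chartξ L (some a) = L.ξX ≫ tr a := (comp_tr _ _).symm

theorem isOpenImmersion_chartξ [hX : IsOpenImmersion L.ξX.left] (i) : IsOpenImmersion (chartξ L i).left := by
  cases i with
  | none => exact OverOpen.of_iso (can A)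
  | some a =>
    have h : IsOpenImmersion (L.ξX ≫ tr a).left := OverOpen.comp hX (OverOpen.of_iso (tr a))
    rw [chartξ_some]
    exact h

theorem mono_of_isOpenImmersion {S : Scheme.{u}} {X Y : Over S} (f : X ⟶ Y) (h : IsOpenImmersion f.left) :
    Mono f := by
  have : Mono ((Over.forget S).map f) := inferInstanceAs (Mono f.left)
  exact (Over.forget S).mono_of_mono_map this

theorem smooth_chartY [Smooth L.X.hom] [Smooth A.hom] (i) : Smooth (chartY L i).hom := by
  cases i with
  | none => exact inferInstanceAs (Smooth (A.hom ≫ Neron.genPt R))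
  | some a => exact inferInstanceAs (Smooth L.X.hom)

theorem isSeparated_chartY [IsSeparated L.X.hom] [IsSeparated A.hom] (i) : IsSeparated (chartY L i).hom := by
  cases i with
  | none => exact inferInstanceAs (IsSeparated (A.hom ≫ Neron.genPt R))
  | some a => exact inferInstanceAs (IsSeparated L.X.hom)

variable [Smooth L.X.hom] [IsSeparated L.X.hom] [IsOpenImmersion L.ξX.left] [Smooth A.hom] [IsSeparated A.hom]

/-- The spans between the charts. -/
noncomputable def PP : SpanSystem (chartY L) :=
  spans (chartY L) (chartξ L) (fun i => by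
    have := smooth_chartY L i
    infer_instance) (isSeparated_chartY L)
    (fun i => mono_of_isOpenImmersion _ (isOpenImmersion_chartξ L i))

omit [IsSeparated L.X.hom] [IsOpenImmersion L.ξX.left] [IsSeparated A.hom] in
theorem exists_specializes_chart (i) (y : (chartY L i).left) :
    ∃ y', y' ⤳ y ∧ (chartY L i).hom y' ∈ (genOpen R : Set _) := by
  have := smooth_chartY L i
  obtain ⟨y', h1, h2⟩ := Groth.Agent.Dix.GenOpen.exists_specializes (chartY L i).hom y
  exact ⟨y', h2, h1⟩

omit [Smooth L.X.hom] [IsSeparated L.X.hom] [IsOpenImmersion L.ξX.left] [Smooth A.hom] in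
/-- The spans over the generic point. -/
theorem exists_span_generic {i j} {B F₁ : Type u} [CommRing B] [IsLocalRing B] [IsDomain B]
    [Field F₁] (φ : B →+* F₁) (hφ : Function.Injective φ)
    (b : Spec (CommRingCat.of B) ⟶ Spec (CommRingCat.of R))
    (hb : b (IsLocalRing.closedPoint B) ∈ genOpen R)
    (hoi : IsOpenImmersion (chartξ L i).left) (hoj : IsOpenImmersion (chartξ L j).left)
    (x : Over.mk b ⟶ chartY L i) (y : Over.mk b ⟶ chartY L j)
    (hxy : (Neron.genericFibre R).map ((Over.homMk (Spec.map (CommRingCat.ofHom φ)) rfl :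
        Over.mk (Spec.map (CommRingCat.ofHom φ) ≫ b) ⟶ Over.mk b) ≫ x) ≫ chartξ L i =
      (Neron.genericFibre R).map ((Over.homMk (Spec.map (CommRingCat.ofHom φ)) rfl :
        Over.mk (Spec.map (CommRingCat.ofHom φ) ≫ b) ⟶ Over.mk b) ≫ y) ≫ chartξ L j) :
    ∃ (V : Over (Spec (CommRingCat.of R))) (v : V ⟶ chartY L i) (g : V ⟶ chartY L j) (ω : Over.mk b ⟶ V),
      IsOpenImmersion v.left ∧ IsOpenImmersion g.left ∧
      (Neron.genericFibre R).map v ≫ chartξ L i = (Neron.genericFibre R).map g ≫ chartξ L j ∧
      ω ≫ v = x ∧ ω ≫ g = y := by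
  let f : Over.mk (Spec.map (CommRingCat.ofHom φ) ≫ b) ⟶ Over.mk b := Over.homMk (Spec.map (CommRingCat.ofHom φ)) rfl
  have hxy : (Neron.genericFibre R).map (f ≫ x) ≫ chartξ L i =
      (Neron.genericFibre R).map (f ≫ y) ≫ chartξ L j := hxy
  obtain ⟨t, ht⟩ := LocalPts.exists_lift_of_closedPoint (B := CommRingCat.of B) b (Neron.genPt R) (by
    rw [← opensRange_genPt] at hb
    exact hb)
  -- `b` factors through the generic point
  let Bk : Over (Spec (CommRingCat.of (FractionRing R))) := Over.mk t
  let xK : Bk ⟶ (Neron.genericFibre R).obj (chartY L i) :=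
    Over.homMk (pullback.lift x.left t (by rw [Over.w x, ht]; rfl)) (pullback.lift_snd _ _ _)
  let yK : Bk ⟶ (Neron.genericFibre R).obj (chartY L j) :=
    Over.homMk (pullback.lift y.left t (by rw [Over.w y, ht]; rfl)) (pullback.lift_snd _ _ _)
  have hxK : xK.left ≫ genι (chartY L i) = x.left := pullback.lift_fst _ _ _
  have hyK : yK.left ≫ genι (chartY L j) = y.left := pullback.lift_fst _ _ _
  let SF : Over (Spec (CommRingCat.of (FractionRing R))) := Over.mk (Spec.map (CommRingCat.ofHom φ) ≫ t)
  let fK : SF ⟶ Bk := Over.homMk (Spec.map (CommRingCat.ofHom φ)) rfl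
  let l : SF ⟶ (Neron.genericFibre R).obj (Over.mk (Spec.map (CommRingCat.ofHom φ) ≫ b)) :=
    Over.homMk (pullback.lift (𝟙 _) (Spec.map (CommRingCat.ofHom φ) ≫ t) (by
      rw [Category.id_comp, Category.assoc, ht]; rfl)) (pullback.lift_snd _ _ _)
  have hl : l.left ≫ genι _ = 𝟙 _ := pullback.lift_fst _ _ _
  have hx1 : fK ≫ xK = l ≫ (Neron.genericFibre R).map (f ≫ x) := by
    apply Over.OverMorphism.ext
    rw [← cancel_mono (genι (chartY L i)), Over.comp_left, Over.comp_left, Category.assoc, Category.assoc,
      hxK, genι_naturality, ← Category.assoc l.left, hl, Category.id_comp]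
    rfl
  have hy1 : fK ≫ yK = l ≫ (Neron.genericFibre R).map (f ≫ y) := by
    apply Over.OverMorphism.ext
    rw [← cancel_mono (genι (chartY L j)), Over.comp_left, Over.comp_left, Category.assoc, Category.assoc,
      hyK, genι_naturality, ← Category.assoc l.left, hl, Category.id_comp]
    rfl
  have hdom : IsDominant fK.left := by
    constructor
    change DenseRange (PrimeSpectrum.comap φ)
    rw [PrimeSpectrum.denseRange_comap_iff_ker_le_nilRadical, (RingHom.injective_iff_ker_eq_bot _).mp hφ]
    exact bot_le
  have hred : IsReduced Bk.left := inferInstanceAs (IsReduced (Spec (CommRingCat.of B)))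
  have hK : xK ≫ chartξ L i = yK ≫ chartξ L j := by
    apply Over.OverMorphism.ext
    refine ext_of_isDominant_of_isSeparated A.hom ?_ fK.left ?_
    · rw [Over.w, Over.w]
    · rw [← Over.comp_left, ← Over.comp_left, ← Category.assoc, ← Category.assoc, hx1, hy1, Category.assoc,
        Category.assoc, hxy]
  -- the fibre product of the generic fibres
  let E := pullback (chartξ L i) (chartξ L j)
  have hE : IsPullback (pullback.fst (chartξ L i) (chartξ L j)) (pullback.snd _ _) (chartξ L i) (chartξ L j) :=
    IsPullback.of_hasPullback _ _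
  have o1 : IsOpenImmersion (pullback.fst (chartξ L i) (chartξ L j)).left := of_isPullback hE.flip hoj
  have o2 : IsOpenImmersion (pullback.snd (chartξ L i) (chartξ L j)).left := of_isPullback hE hoi
  let u : Bk ⟶ E := hE.lift xK yK hK
  have hu1 : u ≫ pullback.fst (chartξ L i) (chartξ L j) = xK := hE.lift_fst _ _ _
  have hu2 : u ≫ pullback.snd (chartξ L i) (chartξ L j) = yK := hE.lift_snd _ _ _
  let ω : Over.mk b ⟶ toR E := Over.homMk u.left (by
    change u.left ≫ E.hom ≫ Neron.genPt R = b
    rw [← Category.assoc, Over.w u]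
    exact ht)
  refine ⟨toR E, toRmap (pullback.fst _ _) ≫ incl _, toRmap (pullback.snd _ _) ≫ incl _, ω,
    OverOpen.comp o1 inferInstance, OverOpen.comp o2 inferInstance, ?_, ?_, ?_⟩
  · rw [map_comp_left, map_comp_left, Category.assoc, Category.assoc, hE.w]
  · apply Over.OverMorphism.ext
    change u.left ≫ (pullback.fst (chartξ L i) (chartξ L j)).left ≫ genι (chartY L i) = x.left
    rw [← Category.assoc, ← Over.comp_left, hu1, hxK]
  · apply Over.OverMorphism.ext
    change u.left ≫ (pullback.snd (chartξ L i) (chartξ L j)).left ≫ genι (chartY L j) = y.left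
    rw [← Category.assoc, ← Over.comp_left, hu2, hyK]

/-- A point of the product of two charts which is a specialization of a point of a span lies on a span. -/
theorem exists_span_of_specializes (hR : EtCoh.IsStrictlyHenselianLocalRing R)
    {i j} {V : Over (Spec (CommRingCat.of R))} (v : V ⟶ chartY L i) (g : V ⟶ chartY L j)
    (hW : (PP L).W i j V v g) (z : V.left) (hz : V.hom z ∈ (genOpen R : Set _))
    (w : ↥(pullback (chartY L i).hom (chartY L j).hom)) (hzw : SpanSystem.toProd v g z ⤳ w) :
    ∃ (V' : Over (Spec (CommRingCat.of R))) (v' : V' ⟶ chartY L i) (g' : V' ⟶ chartY L j),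
      (PP L).W i j V' v' g' ∧ ∃ z', SpanSystem.toProd v' g' z' = w := by
  obtain ⟨B, F₁, _, _, _, _, φ, β, ζ, hφ, hβ, hβζ, hζ⟩ :=
    LocalPts.exists_localDomain (SpanSystem.toProd v g) z w hzw
  let b : Spec (CommRingCat.of B) ⟶ Spec (CommRingCat.of R) := β ≫ pullback.fst _ _ ≫ (chartY L i).hom
  let x : Over.mk b ⟶ chartY L i := Over.homMk (β ≫ pullback.fst _ _) (Category.assoc _ _ _)
  let y : Over.mk b ⟶ chartY L j := Over.homMk (β ≫ pullback.snd _ _) (by
    rw [Category.assoc, ← pullback.condition]
    rfl)
  let SF : Over (Spec (CommRingCat.of R)) := Over.mk (Spec.map (CommRingCat.ofHom φ) ≫ b)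
  let f : SF ⟶ Over.mk b := Over.homMk (Spec.map (CommRingCat.ofHom φ)) rfl
  have hfx : Spec.map (CommRingCat.ofHom φ) ≫ β ≫ pullback.fst _ _ = ζ ≫ v.left := by
    rw [← Category.assoc, hβζ, Category.assoc, SpanSystem.toProd, pullback.lift_fst]
  have hfy : Spec.map (CommRingCat.ofHom φ) ≫ β ≫ pullback.snd _ _ = ζ ≫ g.left := by
    rw [← Category.assoc, hβζ, Category.assoc, SpanSystem.toProd, pullback.lift_snd]
  have hζV : ζ ≫ V.hom = Spec.map (CommRingCat.ofHom φ) ≫ b := by
    rw [← Over.w v, ← Category.assoc, ← hfx]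
    simp only [b, Category.assoc]
  let ζ' : SF ⟶ V := Over.homMk ζ hζV
  have ex : f ≫ x = ζ' ≫ v := by
    apply Over.OverMorphism.ext
    exact hfx
  have ey : f ≫ y = ζ' ≫ g := by
    apply Over.OverMorphism.ext
    exact hfy
  have hxy : (Neron.genericFibre R).map (f ≫ x) ≫ chartξ L i =
      (Neron.genericFibre R).map (f ≫ y) ≫ chartξ L j := by
    rw [ex, ey, Functor.map_comp, Functor.map_comp, Category.assoc, Category.assoc, hW.2.2]
  have hgen : (Spec.map (CommRingCat.ofHom φ) ≫ b) (IsLocalRing.closedPoint F₁) ∈ genOpen R := by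
    rw [← hζV, Scheme.Hom.comp_apply, hζ]
    exact hz
  have main : ∃ (V' : Over (Spec (CommRingCat.of R))) (v' : V' ⟶ chartY L i) (g' : V' ⟶ chartY L j)
      (ω : Over.mk b ⟶ V'), (PP L).W i j V' v' g' ∧ ω ≫ v' = x ∧ ω ≫ g' = y := by
    by_cases hb : b (IsLocalRing.closedPoint B) ∈ genOpen R
    · obtain ⟨V', v', g', ω, h1, h2, h3, h4, h5⟩ := exists_span_generic L φ hφ b hb
        (isOpenImmersion_chartξ L i) (isOpenImmersion_chartξ L j) x y hxy
      exact ⟨V', v', g', ω, ⟨h1, h2, h3⟩, h4, h5⟩
    · have hb' : b (IsLocalRing.closedPoint B) = IsLocalRing.closedPoint R := by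
        by_contra h
        exact hb ((mem_genOpen _).2 h)
      have hnone : ∀ q : (chartY L none).left, (chartY L none).hom q ≠ IsLocalRing.closedPoint R := by
        intro q hq
        have h1 : Neron.genPt R (A.hom q) = IsLocalRing.closedPoint R := hq
        have h2 : Neron.genPt R (A.hom q) ∈ genOpen R := by
          rw [← opensRange_genPt]
          exact ⟨_, rfl⟩
        exact h2 h1
      cases i with
      | none =>
        exact (hnone (x.left (IsLocalRing.closedPoint B)) (by
          rw [← Scheme.Hom.comp_apply, Over.w x]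
          exact hb')).elim
      | some a =>
        cases j with
        | none =>
          exact (hnone (y.left (IsLocalRing.closedPoint B)) (by
            rw [← Scheme.Hom.comp_apply, Over.w y]
            exact hb')).elim
        | some a' =>
          have hconst : ∀ {Z : Over (Spec (CommRingCat.of R))} (q : Z ⟶ L.X)
              (c : 𝟙_ (Over (Spec (CommRingCat.of (FractionRing R)))) ⟶ A),
              (Neron.genericFibre R).map q ≫ ((toUnit _ ≫ c) * L.ξX) =
                (toUnit _ ≫ c) * ((Neron.genericFibre R).map q ≫ L.ξX) := by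
            intro Z q c
            rw [comp_mul', toUnit_comp']
          have hxy' : (toUnit _ ≫ a) * ((Neron.genericFibre R).map (f ≫ x) ≫ L.ξX) =
              (toUnit _ ≫ a') * ((Neron.genericFibre R).map (f ≫ y) ≫ L.ξX) :=
            (hconst (f ≫ x) a).symm.trans (hxy.trans (hconst (f ≫ y) a'))
          have hxy'' : (Neron.genericFibre R).map (f ≫ y) ≫ L.ξX = (toUnit _ ≫ (a'⁻¹ * a)) *
              ((Neron.genericFibre R).map (f ≫ x) ≫ L.ξX) := by
            rw [comp_mul', _root_.mul_assoc, hxy', ← _root_.mul_assoc, ← comp_mul', inv_mul_cancel]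
            have h1 : toUnit ((Neron.genericFibre R).obj SF) ≫
                (1 : 𝟙_ (Over (Spec (CommRingCat.of (FractionRing R)))) ⟶ A) = 1 := by
              rw [Hom.one_def, Hom.one_def, ← Category.assoc, toUnit_unique (toUnit _ ≫ _) (toUnit _)]
            rw [h1, _root_.one_mul]
          obtain ⟨V', v', g', ω, h1, h2, h3, h4, h5⟩ := exists_span L hR φ hφ b hb' hgen x y (a'⁻¹ * a) hxy''
          refine ⟨V', v', g', ω, ⟨h1, h2, ?_⟩, h4, h5⟩
          change (Neron.genericFibre R).map v' ≫ ((toUnit _ ≫ a) * L.ξX) =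
            (Neron.genericFibre R).map g' ≫ ((toUnit _ ≫ a') * L.ξX)
          rw [hconst, hconst, h3, ← _root_.mul_assoc, ← comp_mul', mul_inv_cancel_left]
  obtain ⟨V', v', g', ω, hW', h4, h5⟩ := main
  refine ⟨V', v', g', hW', ω.left (IsLocalRing.closedPoint B), ?_⟩
  have h6 : ω.left ≫ SpanSystem.toProd v' g' = β := by
    apply pullback.hom_ext
    · rw [Category.assoc, SpanSystem.toProd, pullback.lift_fst, ← Over.comp_left, h4]
      rfl
    · rw [Category.assoc, SpanSystem.toProd, pullback.lift_snd, ← Over.comp_left, h5]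
      rfl
  rw [← Scheme.Hom.comp_apply, h6, hβ]

/-- The covering of the glued scheme by the charts. -/
noncomputable def cover : (PP L).glued.left.OpenCover where
  I₀ := Option (𝟙_ (Over (Spec (CommRingCat.of (FractionRing R)))) ⟶ A)
  X i := (chartY L i).left
  f i := ((PP L).chart i).left
  mem₀ := by
    rw [Scheme.presieve₀_mem_precoverage_iff]
    exact ⟨(PP L).chart_surjective, fun i => inferInstance⟩

theorem smooth_glued : Smooth (PP L).glued.hom := by
  rw [IsZariskiLocalAtSource.iff_of_openCover (P := @Smooth) (cover L)]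
  intro i
  change Smooth (((PP L).chart i).left ≫ (PP L).glued.hom)
  rw [Over.w]
  exact smooth_chartY L i

theorem isSeparated_glued (hR : EtCoh.IsStrictlyHenselianLocalRing R) : IsSeparated (PP L).glued.hom := by
  have h1 : Smooth (PP L).glued.hom := smooth_glued L
  have h2 : IsLocallyNoetherian (PP L).glued.left := LocallyOfFiniteType.isLocallyNoetherian (PP L).glued.hom
  exact (PP L).isSeparated_glued (genOpen R : Set _) (exists_specializes_chart L)
    (fun i j V v g hW z hz w hw => exists_span_of_specializes L hR v g hW z hz w hw)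

omit [Smooth L.X.hom] [IsSeparated L.X.hom] [IsOpenImmersion L.ξX.left] [Smooth A.hom] [IsSeparated A.hom] in
/-- The charts on the generic fibre as open subschemes of the chart `A`. -/
noncomputable def toChart (i) : toR ((Neron.genericFibre R).obj (chartY L i)) ⟶ chartY L none :=
  toRmap (chartξ L i)

omit [Smooth L.X.hom] [IsSeparated L.X.hom] [IsOpenImmersion L.ξX.left] [Smooth A.hom] [IsSeparated A.hom] in
theorem map_toChart (i) : (Neron.genericFibre R).map (toChart L i) ≫ chartξ L none = can _ ≫ chartξ L i :=
  map_toRmap (chartξ L i)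

theorem toChart_chart (i) : toChart L i ≫ (PP L).chart none = incl (chartY L i) ≫ (PP L).chart i := by
  symm
  apply (PP L).glue_condition
  refine ⟨inferInstance, isOpenImmersion_chartξ L i, ?_⟩
  rw [map_incl]
  exact (map_toChart L i).symm

theorem isIso_map_chart : IsIso ((Neron.genericFibre R).map ((PP L).chart none)) := by
  have h1 : IsOpenImmersion ((Neron.genericFibre R).map ((PP L).chart none)).left :=
    Groth.Agent.Sga7.H750.GenOv.isOpenImmersion_map_left _
  have h2 : Function.Surjective ((Neron.genericFibre R).map ((PP L).chart none)).left := by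
    intro p
    obtain ⟨i, y, hy⟩ := (PP L).chart_surjective (genι (PP L).glued p)
    have h3 : ((chartY L i).hom y).asIdeal = ⊥ := by
      have h4 := genι_mem (PP L).glued p
      rwa [← hy, ← Scheme.Hom.comp_apply, Over.w] at h4
    obtain ⟨y', rfl⟩ := exists_genι_eq (chartY L i) y h3
    refine Groth.Agent.Sga7.H750.GenOv.exists_map_left_eq _ p ((toChart L i).left y') ?_
    rw [← hy, ← Scheme.Hom.comp_apply, ← Over.comp_left, toChart_chart]
    rfl
  have h3 : Epi ((Neron.genericFibre R).map ((PP L).chart none)).left.base :=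
    (TopCat.epi_iff_surjective _).2 h2
  have h4 : IsIso ((Neron.genericFibre R).map ((PP L).chart none)).left := IsOpenImmersion.isIso _
  have h5 : IsIso ((Over.forget _).map ((Neron.genericFibre R).map ((PP L).chart none))) := h4
  exact isIso_of_reflects_iso _ (Over.forget _)

/-- **N5.** The translates of the chart `X` of a partial multiplication glue to a smooth separated scheme with
generic fibre `A`. -/
theorem exists_glued (hR : EtCoh.IsStrictlyHenselianLocalRing R) :
    ∃ (G : Over (Spec (CommRingCat.of R))) (e : (Neron.genericFibre R).obj G ≅ A)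
      (i : (𝟙_ (Over (Spec (CommRingCat.of (FractionRing R)))) ⟶ A) → (L.X ⟶ G)),
      Smooth G.hom ∧ IsSeparated G.hom ∧ (∀ a, IsOpenImmersion (i a).left) ∧
      (∀ a, (Neron.genericFibre R).map (i a) ≫ e.hom = (toUnit _ ≫ a) * L.ξX) ∧
      ∀ z : G.left, G.hom z = IsLocalRing.closedPoint R → ∃ (a : _) (x : L.X.left), (i a).left x = z := by
  have h0 : IsIso ((Neron.genericFibre R).map ((PP L).chart none)) := isIso_map_chart L
  have h0' : IsIso (chartξ L none) := isIso_can A
  let e : (Neron.genericFibre R).obj (PP L).glued ≅ A :=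
    (asIso ((Neron.genericFibre R).map ((PP L).chart none))).symm ≪≫ asIso (chartξ L none)
  have he : (Neron.genericFibre R).map ((PP L).chart none) ≫ e.hom = chartξ L none := by
    simp [e]
  refine ⟨(PP L).glued, e, fun a => (PP L).chart (some a), smooth_glued L, isSeparated_glued L hR,
    fun a => inferInstanceAs (IsOpenImmersion ((PP L).chart (some a)).left), fun a => ?_, fun z hz => ?_⟩
  · have h1 := congrArg (fun t => (Neron.genericFibre R).map t ≫ e.hom) (toChart_chart L (some a))
    simp only [Functor.map_comp, Category.assoc] at h1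
    rw [he, map_incl, map_toChart] at h1
    exact ((cancel_epi _).1 h1).symm
  · obtain ⟨i, y, rfl⟩ := (PP L).chart_surjective z
    cases i with
    | none =>
      exfalso
      rw [← Scheme.Hom.comp_apply, Over.w] at hz
      have h1 : Neron.genPt R (A.hom y) = IsLocalRing.closedPoint R := hz
      have h2 : Neron.genPt R (A.hom y) ∈ genOpen R := by
        rw [← opensRange_genPt]
        exact ⟨_, rfl⟩
      exact h2 h1
    | some a => exact ⟨a, y, rfl⟩

end Assembly

end Groth.Agent.Sga7.H524.N5

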